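import Cfsg.Agent.Lib.Walter.NoField.Chain.Sylow
import Mathlib.GroupTheory.Transfer

/-!
# Section Z, chain: the contradiction by transfer

`N(R)` fixes `y` modulo `R'`, and the cosets fixed by `⟨y, w⟩` are those of `C⟨y, w⟩ N(R)`: the
transfer to `R / R'` of `x = y ^ l^(e-1)` is the class of `x` to the power `[G : R]`.

Owner: helper87.
-/

set_option autoImplicit false
set_option linter.style.haveILetI false
set_option linter.unusedSectionVars false

universe u

namespace Cfsg.Agent.Lib.Walter.NoField.Chain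

open Subgroup
open scoped commutatorElement

/-- A product of an invariant function over the points of an `l`-group action. -/
theorem prod_eq_pow {P α H : Type u} [Group P] [MulAction P α] [Fintype α] [CommGroup H] {l : ℕ}
    [Fact l.Prime] (hP : IsPGroup l P) (θ : α → H) (hinv : ∀ (p : P) a, θ (p • a) = θ a)
    (hθ : ∀ a, θ a ^ l = 1) {c : H} (hc : c ^ l = 1)
    (hfix : ∀ a ∈ MulAction.fixedPoints P α, θ a = c) :
    ∏ a, θ a = c ^ Nat.card α := by
  classical
  suffices h : ∏ a, θ a / c = 1 by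
    rw [Finset.prod_div_distrib, Finset.prod_const, div_eq_one] at h
    rw [h, Nat.card_eq_fintype_card]
    rfl
  rw [show (∏ a, θ a / c) = ∏ a, id ((fun a => θ a / c) a) from rfl, Finset.prod_comp]
  refine Finset.prod_eq_one fun b _ => ?_
  by_cases hb : b = 1
  · rw [hb, id_eq, one_pow]
  by_cases hbr : ∃ a, θ a / c = b
  · let s : SubMulAction P α :=
      { carrier := {a | θ a / c = b}
        smul_mem' := fun p a (ha : θ a / c = b) => show θ (p • a) / c = b by rw [hinv, ha] }
    have hmod := hP.card_modEq_card_fixedPoints ↥s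
    have h0 : Nat.card (MulAction.fixedPoints P ↥s) = 0 := by
      haveI : IsEmpty ↥(MulAction.fixedPoints P ↥s) := ⟨fun a => hb (by
        have h1 := hfix (a.1 : α) fun p => congrArg Subtype.val (a.2 p)
        have h2 : θ (a.1 : α) / c = b := a.1.2
        rw [← h2, h1, div_self'])⟩
      exact Nat.card_of_isEmpty
    rw [h0, Nat.modEq_zero_iff_dvd] at hmod
    obtain ⟨a, ha⟩ := hbr
    have hbl : b ^ l = 1 := by rw [← ha, div_pow, hθ, hc, div_self']
    obtain ⟨k, hk⟩ := hmod
    have hcard : (Finset.univ.filter fun a => θ a / c = b).card = Nat.card ↥s := by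
      rw [Nat.card_eq_fintype_card]
      exact (Fintype.card_of_subtype _ (fun a => by simp; rfl)).symm
    rw [id_eq, hcard, hk, pow_mul, hbl, one_pow]
  · have : (Finset.univ.filter fun a => θ a / c = b) = ∅ :=
      Finset.filter_eq_empty_iff.2 fun a _ h => hbr ⟨a, h⟩
    rw [this, Finset.card_empty, pow_zero]

variable {G : Type u} [Group G] [Finite G] {y w d : G} {K l e : ℕ} [Fact l.Prime]

/-- The contradiction. -/
theorem false_of_base [IsSimpleGroup G] (B : Base y w d K l e) (hna : ¬ IsMulCommutative G) :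
    False := by
  classical
  have hlp : l.Prime := Fact.out
  obtain ⟨d, R, A, B, T⟩ := B.exists_sylow
  set N := normalizer ((R : Subgroup G) : Set G) with hN
  obtain ⟨a₀, χ, ρ, C⟩ := T.exists_coord B
  -- `N(R)` fixes `y` modulo `R'`
  have hcop : ¬ l ∣ Nat.card ↥ρ.range := by
    rw [← Subgroup.index_ker]
    intro h
    have h1 : ρ.ker.index ∣ ((R : Subgroup G).subgroupOf N).index :=
      index_dvd_of_le fun g hg => MonoidHom.mem_ker.2 (C.inner g (mem_subgroupOf.1 hg))
    have h2 : ((R : Subgroup G).subgroupOf N).index ∣ (R : Subgroup G).index :=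
      Subgroup.relIndex_dvd_index_of_le le_normalizer
    exact R.not_dvd_index ((h.trans h1).trans h2)
  have hδ := C.diag ⟨d, T.mem_normalizer B⟩ rfl
  have hall : ∀ g : ↥N, ∃ c ∈ (R : Subgroup G), (g : G) * y * (g : G)⁻¹ = c * y * c⁻¹ := fun g =>
    C.line g (SmallPrime.fixed B.ne_two C.noScalar hcop (δ := ρ ⟨d, T.mem_normalizer B⟩) ⟨_, rfl⟩
      (by rw [hδ]; rfl) (by
        rw [hδ]
        show ((K : ZMod l)) ^ 2 ≠ 1
        intro h
        refine B.sq_ne_one ((ZMod.natCast_eq_natCast_iff _ _ _).1 ?_)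
        push_cast
        exact h) ⟨g, rfl⟩)
  -- the element `x`
  obtain ⟨x, hxdef⟩ : ∃ x, y ^ l ^ (e - 1) = x := ⟨_, rfl⟩
  have he : e - 1 + 1 = e := by have := B.one_le; omega
  have hxl : x ^ l = 1 := by rw [← hxdef, ← pow_mul, ← pow_succ, he, B.pow_y]
  have hx1 : x ≠ 1 := by
    rw [← hxdef]
    refine pow_ne_one_of_lt_orderOf (pow_ne_zero _ hlp.ne_zero) ?_
    rw [B.ordy]
    exact Nat.pow_lt_pow_right hlp.one_lt (by omega)
  have hxy : x ∈ zpowers y := hxdef ▸ pow_mem (mem_zpowers y) _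
  have hxR : x ∈ (R : Subgroup G) := (zpowers_le.2 T.memy) hxy
  set φ := Abelianization.of (G := ↥(R : Subgroup G)) with hφ
  have hφx : φ ⟨x, hxR⟩ ≠ 1 := by
    intro h
    rw [hφ, ← MonoidHom.mem_ker, Abelianization.ker_of] at h
    have h1 : x ∈ ⁅(R : Subgroup G), (R : Subgroup G)⁆ := by
      rw [← map_subtype_commutator]
      exact ⟨_, h, rfl⟩
    exact hx1 (T.inf x (T.commutator_le B h1) hxy)
  have hφl : φ ⟨x, hxR⟩ ^ l = 1 := by
    rw [← map_pow, show (⟨x, hxR⟩ : ↥(R : Subgroup G)) ^ l = 1 from Subtype.ext hxl, map_one]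
  set P := zpowers y ⊔ zpowers w with hPdef
  have hPp : IsPGroup l ↥P := R.isPGroup'.to_le T.le_D
  have hPx : ∀ p ∈ P, Commute p x := by
    intro p hp
    have h : P ≤ centralizer ({x} : Set G) := sup_le
      (zpowers_le.2 (mem_centralizer_singleton_iff.2 (by
        rw [← hxdef]; exact ((Commute.refl y).pow_right _).eq)))
      (zpowers_le.2 (mem_centralizer_singleton_iff.2 (by
        rw [← hxdef]; exact (B.comm.pow_right _).eq)))
    exact mem_centralizer_singleton_iff.1 (h hp)
  -- the fixed cosets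
  let Fx : SubMulAction ↥P (G ⧸ (R : Subgroup G)) :=
    { carrier := {q | x • q = q}
      smul_mem' := fun p q (hq : x • q = q) => show x • ((p : G) • q) = (p : G) • q by
        rw [← mul_smul, ← (hPx p p.2).eq, mul_smul, hq] }
  have hmem : ∀ (g : G), x • (g : G ⧸ (R : Subgroup G)) = g → g⁻¹ * x * g ∈ (R : Subgroup G) := by
    intro g hg
    rw [MulAction.Quotient.smul_mk, smul_eq_mul, eq_comm, QuotientGroup.eq, ← mul_assoc] at hg
    exact hg
  let θ : ↥Fx → Abelianization ↥(R : Subgroup G) := fun q =>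
    φ ⟨q.1.out⁻¹ * x * q.1.out, hmem _ (by rw [QuotientGroup.out_eq']; exact q.2)⟩
  have hθ : ∀ (q : ↥Fx) (g : G) (h : g⁻¹ * x * g ∈ (R : Subgroup G)),
      (g : G ⧸ (R : Subgroup G)) = q.1 → θ q = φ ⟨_, h⟩ := by
    intro q g h hg
    have hr : q.1.out⁻¹ * g ∈ (R : Subgroup G) := by
      rw [← QuotientGroup.eq, QuotientGroup.out_eq', hg]
    have e : (⟨g⁻¹ * x * g, h⟩ : ↥(R : Subgroup G)) = ⟨_, hr⟩⁻¹ *
        ⟨q.1.out⁻¹ * x * q.1.out, hmem _ (by rw [QuotientGroup.out_eq']; exact q.2)⟩ * ⟨_, hr⟩ :=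
      Subtype.ext (by simp only [Subgroup.coe_mul, Subgroup.coe_inv]; group)
    rw [e, map_mul, map_mul, map_inv, mul_right_comm, inv_mul_cancel, one_mul]
  haveI : Fintype ↥Fx := Fintype.ofFinite _
  have hprod : ∏ q, θ q = φ ⟨x, hxR⟩ ^ Nat.card ↥Fx := by
    refine prod_eq_pow hPp θ (fun p q => ?_) (fun q => ?_) hφl fun q hq => ?_
    · have h1 : (((p : G) * q.1.out : G) : G ⧸ (R : Subgroup G)) = (p • q).1 := by
        show _ = (p : G) • q.1
        rw [← smul_eq_mul, ← MulAction.Quotient.smul_mk, QuotientGroup.out_eq']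
      have h2 : ((p : G) * q.1.out)⁻¹ * x * ((p : G) * q.1.out) = q.1.out⁻¹ * x * q.1.out := by
        calc ((p : G) * q.1.out)⁻¹ * x * ((p : G) * q.1.out)
            = q.1.out⁻¹ * ((p : G)⁻¹ * (x * p)) * q.1.out := by group
          _ = _ := by rw [← (hPx p p.2).eq, inv_mul_cancel_left]
      have hmemq := hmem q.1.out (by rw [QuotientGroup.out_eq']; exact q.2)
      rw [hθ (p • q) _ (h2 ▸ hmemq) h1]
      exact congrArg φ (Subtype.ext h2)
    · show φ _ ^ l = 1
      rw [← map_pow]
      refine (congrArg φ (Subtype.ext ?_)).trans (map_one φ)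
      rw [SubmonoidClass.coe_pow]
      show (q.1.out⁻¹ * x * q.1.out) ^ l = 1
      rw [show q.1.out⁻¹ * x * q.1.out = q.1.out⁻¹ * x * q.1.out⁻¹⁻¹ by rw [inv_inv], conj_pow, hxl,
        mul_one, mul_inv_cancel]
    · set g := q.1.out with hg
      have hin : ∀ p ∈ P, p ∈ ((g • R : Sylow l G) : Subgroup G) := by
        intro p hp
        have h1 : (p • g : G) = p * g := rfl
        have h := congrArg Subtype.val (hq ⟨p, hp⟩)
        change p • q.1 = q.1 at h
        rw [← QuotientGroup.out_eq' q.1, MulAction.Quotient.smul_mk, eq_comm, QuotientGroup.eq,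
          ← hg, h1, ← mul_assoc] at h
        exact mem_smul_sylow.2 h
      obtain ⟨c, hcy, -, he'⟩ := T.exists_smul B (g • R) (hin y (mem_sup_left (mem_zpowers y)))
        (hin w (mem_sup_right (mem_zpowers w)))
      have hn : c⁻¹ * g ∈ N := Sylow.smul_eq_iff_mem_normalizer.1 (by
        rw [mul_smul, he', inv_smul_smul])
      obtain ⟨c', hc', hyc⟩ := hall ⟨_, inv_mem hn⟩
      have hxc : (c⁻¹ * g)⁻¹ * x * (c⁻¹ * g)⁻¹⁻¹ = c' * x * c'⁻¹ := by
        rw [← hxdef, ← conj_pow, ← conj_pow]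
        exact congrArg (· ^ l ^ (e - 1)) hyc
      have hcx : Commute c x := hxdef ▸ hcy.pow_right _
      have hgx : g⁻¹ * x * g = c' * x * c'⁻¹ := by
        rw [← hxc]
        calc g⁻¹ * x * g = g⁻¹ * (x * c * c⁻¹) * g := by group
          _ = g⁻¹ * (c * x * c⁻¹) * g := by rw [hcx.eq]
          _ = _ := by group
      show φ _ = φ _
      rw [show (⟨g⁻¹ * x * g, hmem g (by rw [hg, QuotientGroup.out_eq']; exact q.2)⟩ :
        ↥(R : Subgroup G)) = ⟨c', hc'⟩ * ⟨x, hxR⟩ * (⟨c', hc'⟩ : ↥(R : Subgroup G))⁻¹ from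
          Subtype.ext hgx, map_mul, map_mul, map_inv, mul_right_comm, mul_inv_cancel, one_mul]
  -- the transfer
  haveI : Fintype (Quotient (MulAction.orbitRel (zpowers x) (G ⧸ (R : Subgroup G)))) :=
    Fintype.ofFinite _
  have hout : ∀ q : ↥Fx, (Quotient.mk'' (q.1) :
      Quotient (MulAction.orbitRel (zpowers x) (G ⧸ (R : Subgroup G)))).out = q.1 := by
    intro q
    obtain ⟨⟨g, hg⟩, hgq⟩ := MulAction.mem_orbit_iff.1 (Quotient.exact' (Quotient.out_eq' (Quotient.mk'' (q.1) :
      Quotient (MulAction.orbitRel (zpowers x) (G ⧸ (R : Subgroup G))))))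
    rw [← hgq]
    obtain ⟨i, rfl⟩ := mem_zpowers_iff.1 hg
    show x ^ i • q.1 = q.1
    exact MulAction.mem_stabilizer_iff.1 (zpow_mem (MulAction.mem_stabilizer_iff.2 q.2) i)
  have htr : MonoidHom.transfer φ x = ∏ q, θ q := by
    rw [MonoidHom.transfer_eq_prod_quotient_orbitRel_zpowers_quot]
    symm
    refine Fintype.prod_of_injective (fun q : ↥Fx => Quotient.mk'' q.1)
      (fun q q' h => Subtype.ext (by rw [← hout q, ← hout q']; exact congrArg Quotient.out h))
      θ _ (fun o ho => ?_) fun q => ?_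
    · set q := o.out with hq
      have hd : Function.minimalPeriod (x • ·) q ∣ l :=
        MulAction.pow_smul_eq_iff_minimalPeriod_dvd.1 (by rw [hxl, one_smul])
      rcases (Nat.dvd_prime hlp).1 hd with h | h
      · exfalso
        refine ho ⟨⟨q, (Function.minimalPeriod_eq_one_iff_isFixedPt.1 h : _)⟩, ?_⟩
        show Quotient.mk'' q = o
        rw [hq, Quotient.out_eq']
      · refine (congrArg φ (Subtype.ext ?_)).trans (map_one φ)
        show q.out⁻¹ * x ^ Function.minimalPeriod (x • ·) q * q.out = 1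
        rw [h, hxl]
        group
    · set o : Quotient (MulAction.orbitRel (zpowers x) (G ⧸ (R : Subgroup G))) :=
        Quotient.mk'' q.1 with ho
      have h1 : Function.minimalPeriod (x • ·) o.out = 1 := by
        rw [hout q]
        exact Function.minimalPeriod_eq_one_iff_isFixedPt.2 q.2
      rw [hθ q o.out.out (hmem _ (by rw [QuotientGroup.out_eq', hout q]; exact q.2))
        (by rw [QuotientGroup.out_eq', hout q])]
      refine congrArg φ (Subtype.ext ?_)
      show o.out.out⁻¹ * x * o.out.out =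
        o.out.out⁻¹ * x ^ Function.minimalPeriod (x • ·) o.out * o.out.out
      rw [h1, pow_one]
  have hV : (MonoidHom.transfer φ).ker = ⊤ := by
    refine (IsSimpleGroup.eq_bot_or_eq_top_of_normal _ inferInstance).resolve_left fun h =>
      hna ⟨⟨fun p q => (MonoidHom.ker_eq_bot_iff _).1 h (by rw [map_mul, map_mul, mul_comm])⟩⟩
  rw [show MonoidHom.transfer φ x = 1 from MonoidHom.mem_ker.1 (hV ▸ mem_top x), hprod] at htr
  have hcard : ¬ l ∣ Nat.card ↥Fx := by
    intro h
    refine R.not_dvd_index ?_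
    have hZ : IsPGroup l ↥(zpowers x) :=
      IsPGroup.of_card (n := 1) (by rw [Nat.card_zpowers, pow_one]; exact orderOf_eq_prime hxl hx1)
    have hmod := hZ.card_modEq_card_fixedPoints (G ⧸ (R : Subgroup G))
    have heq : Nat.card (MulAction.fixedPoints (zpowers x) (G ⧸ (R : Subgroup G))) = Nat.card ↥Fx := by
      refine Nat.card_congr (Equiv.subtypeEquivRight fun q => ⟨fun hq => hq ⟨x, mem_zpowers x⟩, ?_⟩)
      rintro (hq : x • q = q) ⟨g, hg⟩
      obtain ⟨i, rfl⟩ := mem_zpowers_iff.1 hg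
      exact MulAction.mem_stabilizer_iff.1 (zpow_mem (MulAction.mem_stabilizer_iff.2 hq) i)
    rw [heq] at hmod
    rw [index_eq_card]
    exact (Nat.modEq_zero_iff_dvd).1 (hmod.trans (Nat.modEq_zero_iff_dvd.2 h))
  refine hφx (orderOf_eq_one_iff.1 (Nat.eq_one_of_dvd_coprimes
    (hlp.coprime_iff_not_dvd.2 hcard) (orderOf_dvd_of_pow_eq_one hφl)
    (orderOf_dvd_of_pow_eq_one htr.symm)))

end Cfsg.Agent.Lib.Walter.NoField.Chain
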