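import Cfsg.Agent.Lib.PGroups.Frattini
import Mathlib.GroupTheory.SpecificGroups.Cyclic
import Mathlib.Data.Nat.Factorization.Basic

/-!
# Section Z, chain: `l`-subgroups `D = A ⟨y⟩` over `⟨y⟩ × ⟨w⟩`

`y` of order `lᵉ`, `P = ⟨y, w⟩` a Sylow `l`-subgroup of `C(y)`, `d` an element of order prime to `l`
fixing `y` and mapping `w` to `wᴷ`.  A structured subgroup `D = A ⟨y⟩` has `A` abelian, normal and
raised to the `K`-th power by `d`; then `C_A(y) = ⟨w⟩` and `D' = [A, y]` has index `l` in `A`.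

Owner: helper87.
-/

set_option autoImplicit false
set_option linter.style.haveILetI false
set_option linter.unusedSectionVars false

universe u

namespace Cfsg.Agent.Lib.Walter.NoField.Chain

open Subgroup
open scoped commutatorElement

variable {G : Type u} [Group G]

/-- The hypotheses. -/
structure Base (y w d : G) (K l e : ℕ) : Prop where
  ne_two : l ≠ 2
  one_le : 1 ≤ e
  ordy : orderOf y = l ^ e
  ordw : orderOf w = l
  comm : Commute w y
  not_mem : w ∉ zpowers y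
  not_dvd : ¬ l ^ (e + 2) ∣ Nat.card ↥(centralizer ({y} : Set G))
  norm : ∀ g : G, g * y * g⁻¹ ∈ zpowers y → g * y * g⁻¹ = y
  dy : Commute d y
  dpow : d ^ (ordCompl[l] (Nat.card G)) = 1
  dw : d * w * d⁻¹ = w ^ K
  ne_one : ¬ K ≡ 1 [MOD l]
  sq_ne_one : ¬ K ^ 2 ≡ 1 [MOD l]
  exp : ∀ (g : G) (k : ℕ), g ^ l ^ k = 1 → g ^ K ^ (ordCompl[l] (Nat.card G)) = g

/-- A structured subgroup. -/
structure Struct (y w d : G) (K l : ℕ) (D A : Subgroup G) : Prop where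
  pgroup : IsPGroup l ↥D
  memy : y ∈ D
  memw : w ∈ A
  le : A ≤ D
  comm : ∀ a ∈ A, ∀ b ∈ A, Commute a b
  normal : ∀ g ∈ D, ∀ a ∈ A, g * a * g⁻¹ ∈ A
  inf : ∀ a ∈ A, a ∈ zpowers y → a = 1
  decomp : ∀ g ∈ D, ∃ z ∈ zpowers y, g * z⁻¹ ∈ A
  scal : ∀ a ∈ A, d * a * d⁻¹ = a ^ K

variable [Finite G] {y w d : G} {K l e : ℕ}

/-- An element of `l`-power order is a power of its powers of exponent prime to `l`. -/
theorem self_mem_zpowers_pow [Fact l.Prime] {g : G} {k : ℕ} (hg : g ^ l ^ k = 1) {n : ℕ}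
    (hn : ¬ l ∣ n) : g ∈ zpowers (g ^ n) :=
  mem_zpowers_pow_iff.2 (Nat.Coprime.coprime_dvd_right (orderOf_dvd_of_pow_eq_one hg)
    (((Fact.out : l.Prime).coprime_iff_not_dvd.2 hn).symm.pow_right k))

theorem eq_one_of_pow_eq_one [Fact l.Prime] {g : G} {k : ℕ} (hg : g ^ l ^ k = 1) {n : ℕ}
    (hn : ¬ l ∣ n) (h : g ^ n = 1) : g = 1 := by
  have := self_mem_zpowers_pow hg hn
  rw [h, zpowers_one_eq_bot, mem_bot] at this
  exact this

theorem exists_pow_eq_one [Fact l.Prime] {Q : Subgroup G} (hQ : IsPGroup l ↥Q) {g : G}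
    (hg : g ∈ Q) : ∃ k, g ^ l ^ k = 1 := by
  obtain ⟨k, hk⟩ := hQ ⟨g, hg⟩
  exact ⟨k, congrArg Subtype.val hk⟩

namespace Base

variable [Fact l.Prime] (B : Base y w d K l e)
include B

theorem pow_w : w ^ l = 1 := by rw [← B.ordw, pow_orderOf_eq_one]

theorem pow_y : y ^ l ^ e = 1 := by rw [← B.ordy, pow_orderOf_eq_one]

theorem ordCompl_not_dvd : ¬ l ∣ ordCompl[l] (Nat.card G) :=
  Nat.not_dvd_ordCompl (Fact.out : l.Prime) Nat.card_pos.ne'

theorem not_dvd_K : ¬ l ∣ K := by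
  intro h
  have h1 := B.exp w 1 (by rw [pow_one]; exact B.pow_w)
  have ho : ordCompl[l] (Nat.card G) ≠ 0 := fun h0 => B.ordCompl_not_dvd (h0 ▸ dvd_zero l)
  obtain ⟨c, hc⟩ := h.trans (dvd_pow_self K ho)
  rw [hc, pow_mul, B.pow_w, one_pow] at h1
  exact B.not_mem (h1 ▸ one_mem _)

theorem one_le_K : 1 ≤ K := Nat.one_le_iff_ne_zero.2 fun h => B.not_dvd_K (h ▸ dvd_zero l)

theorem not_dvd_pred : ¬ l ∣ K - 1 := fun h =>
  B.ne_one ((Nat.modEq_iff_dvd' B.one_le_K).2 h).symm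

theorem not_dvd_sq_pred : ¬ l ∣ K ^ 2 - 1 := fun h =>
  B.sq_ne_one ((Nat.modEq_iff_dvd' (Nat.one_le_pow _ _ B.one_le_K)).2 h).symm

/-- A fixed `K`-th power is trivial. -/
theorem eq_one_of_fixed {g : G} {k : ℕ} (hg : g ^ l ^ k = 1) (h : g ^ K = g) : g = 1 := by
  refine eq_one_of_pow_eq_one hg B.not_dvd_pred ?_
  rw [← mul_eq_right (b := g), ← pow_succ, Nat.sub_add_cancel B.one_le_K, h]

theorem self_mem_pow_y {i : ℕ} (hi : ¬ l ∣ i) : y ∈ zpowers (y ^ i) :=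
  self_mem_zpowers_pow B.pow_y hi

theorem isPGroup_y : IsPGroup l ↥(zpowers y) :=
  IsPGroup.of_card (n := e) (by rw [Nat.card_zpowers, B.ordy])

theorem isPGroup_w : IsPGroup l ↥(zpowers w) :=
  IsPGroup.of_card (n := 1) (by rw [Nat.card_zpowers, B.ordw, pow_one])

/-- `d` fixes every power of `y`. -/
theorem d_fix {z : G} (hz : z ∈ zpowers y) : d * z * d⁻¹ = z := by
  obtain ⟨i, rfl⟩ := mem_zpowers_iff.1 hz
  rw [(B.dy.zpow_right i).eq, mul_inv_cancel_right]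

theorem inf_P {g : G} (h1 : g ∈ zpowers w) (h2 : g ∈ zpowers y) : g = 1 := by
  obtain ⟨i, rfl⟩ := (Submonoid.mem_powers_iff _ _).1 (mem_powers_iff_mem_zpowers.2 h1)
  by_cases hi : l ∣ i
  · obtain ⟨c, rfl⟩ := hi
    rw [pow_mul, B.pow_w, one_pow]
  · exfalso
    refine B.not_mem ((zpowers_le.2 h2) ?_)
    exact self_mem_zpowers_pow (k := 1) (by rw [pow_one]; exact B.pow_w) hi

theorem card_le {Q : Subgroup G} (hQ : IsPGroup l ↥Q) (hQy : ∀ g ∈ Q, Commute g y) :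
    Nat.card ↥Q ≤ l ^ (e + 1) := by
  obtain ⟨k, hk⟩ := IsPGroup.iff_card.1 hQ
  rw [hk]
  refine Nat.pow_le_pow_right (Fact.out : l.Prime).pos ?_
  by_contra h
  exact B.not_dvd ((pow_dvd_pow l (show e + 2 ≤ k by omega)).trans (hk ▸ card_dvd_of_le
    fun g hg => mem_centralizer_singleton_iff.2 (hQy g hg).eq))

theorem card_P_ge : l ^ (e + 1) ≤ Nat.card ↥(zpowers y ⊔ zpowers w : Subgroup G) := by
  let f : ↥(zpowers w) × ↥(zpowers y) → ↥(zpowers y ⊔ zpowers w : Subgroup G) := fun p =>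
    ⟨p.1 * p.2, mul_mem (mem_sup_right p.1.2) (mem_sup_left p.2.2)⟩
  have hf : Function.Injective f := by
    rintro ⟨⟨a, ha⟩, ⟨b, hb⟩⟩ ⟨⟨a', ha'⟩, ⟨b', hb'⟩⟩ h
    have h' : a * b = a' * b' := congrArg Subtype.val h
    have h1 : a'⁻¹ * a = b' * b⁻¹ := by
      rw [show a'⁻¹ * a = a'⁻¹ * (a * b) * b⁻¹ by group, h']
      group
    have h2 : a'⁻¹ * a = 1 :=
      B.inf_P (mul_mem (inv_mem ha') ha) (h1 ▸ mul_mem hb' (inv_mem hb))
    rw [inv_mul_eq_one] at h2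
    subst h2
    obtain rfl := mul_left_cancel h'
    rfl
  have := Nat.card_le_card_of_injective f hf
  rwa [Nat.card_prod, Nat.card_zpowers, Nat.card_zpowers, B.ordw, B.ordy, ← pow_succ'] at this

/-- An `l`-subgroup of `C(y)` over `⟨y, w⟩` is `⟨y, w⟩`. -/
theorem eq_P {Q : Subgroup G} (hQ : IsPGroup l ↥Q) (hQy : ∀ g ∈ Q, Commute g y) (hy : y ∈ Q)
    (hw : w ∈ Q) : Q = zpowers y ⊔ zpowers w :=
  (eq_of_le_of_card_ge (sup_le (zpowers_le.2 hy) (zpowers_le.2 hw))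
    ((B.card_le hQ hQy).trans B.card_P_ge)).symm

theorem centralizer_inter {D : Subgroup G} (hD : IsPGroup l ↥D) (hy : y ∈ D) (hw : w ∈ D) {g : G}
    (hg : g ∈ D) (hgy : Commute g y) : g ∈ zpowers y ⊔ zpowers w := by
  rw [← B.eq_P (Q := D ⊓ centralizer ({y} : Set G)) hD.to_inf_left
    (fun a ha => mem_centralizer_singleton_iff.1 (mem_inf.1 ha).2)
    ⟨hy, mem_centralizer_singleton_iff.2 rfl⟩ ⟨hw, mem_centralizer_singleton_iff.2 B.comm.eq⟩]
  exact ⟨hg, mem_centralizer_singleton_iff.2 hgy.eq⟩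

/-- `⟨y, w⟩` is structured. -/
theorem struct_P {D : Subgroup G} (hD : IsPGroup l ↥D) (hy : y ∈ D) (hw : w ∈ D)
    (hle : D ≤ zpowers y ⊔ zpowers w) : Struct y w d K l D (zpowers w) := by
  have hdec : ∀ g ∈ D, ∃ z ∈ zpowers y, g * z⁻¹ ∈ zpowers w := by
    intro g hg
    have hn : zpowers w ≤ normalizer (zpowers y : Set G) := by
      refine (zpowers_le.2 ?_).trans (centralizer_le_normalizer _)
      exact mem_centralizer_iff.2 fun z hz => by
        obtain ⟨i, rfl⟩ := mem_zpowers_iff.1 hz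
        exact (B.comm.zpow_right i).eq.symm
    have h1 := hle hg
    rw [sup_comm, ← SetLike.mem_coe, coe_mul_of_left_le_normalizer_right _ _ hn] at h1
    obtain ⟨a, ha, z, hz, rfl⟩ := h1
    exact ⟨z, hz, by simpa using ha⟩
  refine ⟨hD, hy, mem_zpowers w, zpowers_le.2 hw, fun a ha b hb => ?_, fun g hg a ha => ?_,
    fun a ha hay => B.inf_P ha hay, hdec, fun a ha => ?_⟩
  · obtain ⟨i, rfl⟩ := mem_zpowers_iff.1 ha
    obtain ⟨j, rfl⟩ := mem_zpowers_iff.1 hb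
    exact (Commute.refl w).zpow_zpow i j
  · obtain ⟨z, hz, hgz⟩ := hdec g hg
    obtain ⟨i, rfl⟩ := mem_zpowers_iff.1 hz
    obtain ⟨j, hj⟩ := mem_zpowers_iff.1 hgz
    obtain ⟨k, rfl⟩ := mem_zpowers_iff.1 ha
    have hg' : g = w ^ j * y ^ i := by rw [hj]; group
    have hc : Commute g (w ^ k) := by
      rw [hg']
      exact ((Commute.refl w).zpow_zpow j k).mul_left (B.comm.zpow_zpow k i).symm
    rw [hc.eq, mul_inv_cancel_right]
    exact zpow_mem (mem_zpowers w) k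
  · obtain ⟨i, rfl⟩ := mem_zpowers_iff.1 ha
    rw [← conj_zpow, B.dw, ← zpow_natCast, ← zpow_natCast, ← zpow_mul, ← zpow_mul, mul_comm]

end Base

namespace Struct

variable [Fact l.Prime] {D A : Subgroup G}

theorem memwD (T : Struct y w d K l D A) : w ∈ D := T.le T.memw

theorem le_D (T : Struct y w d K l D A) : zpowers y ⊔ zpowers w ≤ D :=
  sup_le (zpowers_le.2 T.memy) (zpowers_le.2 T.memwD)

theorem conj_mem (B : Base y w d K l e) (T : Struct y w d K l D A) {g : G} (hg : g ∈ D) :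
    d * g * d⁻¹ ∈ D := by
  obtain ⟨z, hz, hgz⟩ := T.decomp g hg
  rw [show d * g * d⁻¹ = d * (g * z⁻¹) * d⁻¹ * (d * z * d⁻¹) by group, T.scal _ hgz, B.d_fix hz]
  exact mul_mem (T.le (pow_mem hgz K)) ((zpowers_le.2 T.memy) hz)

theorem mem_normalizer (B : Base y w d K l e) (T : Struct y w d K l D A) :
    d ∈ normalizer (D : Set G) :=
  mem_normalizer_fintype fun _ hg => T.conj_mem B hg

/-- A smaller subgroup over `⟨y, w⟩`. -/
theorem restrict (T : Struct y w d K l D A) {D' : Subgroup G} (hD : D' ≤ D) (hy : y ∈ D')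
    (hw : w ∈ D') : Struct y w d K l D' (A ⊓ D') where
  pgroup := T.pgroup.to_le hD
  memy := hy
  memw := ⟨T.memw, hw⟩
  le := inf_le_right
  comm a ha b hb := T.comm a ha.1 b hb.1
  normal g hg a ha := mem_inf.2
    ⟨T.normal g (hD hg) a ha.1, mul_mem (mul_mem hg (mem_inf.1 ha).2) (inv_mem hg)⟩
  inf a ha := T.inf a ha.1
  decomp g hg := by
    obtain ⟨z, hz, hgz⟩ := T.decomp g (hD hg)
    exact ⟨z, hz, mem_inf.2 ⟨hgz, mul_mem hg (inv_mem ((zpowers_le.2 hy) hz))⟩⟩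
  scal a ha := T.scal a ha.1

/-- `C_A(y) = ⟨w⟩`. -/
theorem cent_A (B : Base y w d K l e) (T : Struct y w d K l D A) :
    A ⊓ centralizer ({y} : Set G) = zpowers w := by
  refine (eq_of_le_of_card_ge (le_inf (zpowers_le.2 T.memw)
    (zpowers_le.2 (mem_centralizer_singleton_iff.2 B.comm.eq))) ?_).symm
  set C := A ⊓ centralizer ({y} : Set G) with hC
  have hle : C ⊔ zpowers y ≤ D := sup_le (inf_le_left.trans T.le) (zpowers_le.2 T.memy)
  have hQ : ∀ g ∈ C ⊔ zpowers y, Commute g y := fun g hg =>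
    mem_centralizer_singleton_iff.1 ((sup_le inf_le_right
      (zpowers_le.2 (mem_centralizer_singleton_iff.2 rfl))) hg)
  have hcard := B.card_le (T.pgroup.to_le hle) hQ
  let f : ↥C × ↥(zpowers y) → ↥(C ⊔ zpowers y) := fun p =>
    ⟨p.1 * p.2, mul_mem (mem_sup_left p.1.2) (mem_sup_right p.2.2)⟩
  have hf : Function.Injective f := by
    rintro ⟨⟨a, ha⟩, ⟨b, hb⟩⟩ ⟨⟨a', ha'⟩, ⟨b', hb'⟩⟩ h
    have h' : a * b = a' * b' := congrArg Subtype.val h
    have h1 : a'⁻¹ * a = b' * b⁻¹ := by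
      rw [show a'⁻¹ * a = a'⁻¹ * (a * b) * b⁻¹ by group, h']
      group
    have h2 : a'⁻¹ * a = 1 :=
      T.inf _ (mul_mem (inv_mem (mem_inf.1 ha').1) (mem_inf.1 ha).1)
        (h1 ▸ mul_mem hb' (inv_mem hb))
    rw [inv_mul_eq_one] at h2
    subst h2
    obtain rfl := mul_left_cancel h'
    rfl
  have h1 := Nat.card_le_card_of_injective f hf
  rw [Nat.card_prod, Nat.card_zpowers, B.ordy] at h1
  rw [Nat.card_zpowers, B.ordw]
  refine le_of_mul_le_mul_right ?_ (pow_pos (Fact.out : l.Prime).pos e)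
  rw [← pow_succ']
  exact h1.trans hcard

/-- `A → A, b ↦ [yⁱ, b]`: its image is `D'` and has index `l`. -/
theorem exists_gamma (B : Base y w d K l e) (T : Struct y w d K l D A) {i : ℕ} (hi : ¬ l ∣ i) :
    ∃ f : ↥A →* ↥A, (∀ b : ↥A, (f b : G) = y ^ i * b * (y ^ i)⁻¹ * (b : G)⁻¹) ∧
      f.range.index = l ∧ f.range.map A.subtype = ⁅D, D⁆ := by
  have key : ∀ i : ℕ, ∃ f : ↥A →* ↥A,
      ∀ b : ↥A, (f b : G) = y ^ i * b * (y ^ i)⁻¹ * (b : G)⁻¹ := fun i =>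
    ⟨MonoidHom.mk' (fun b => ⟨y ^ i * b * (y ^ i)⁻¹ * (b : G)⁻¹,
      mul_mem (T.normal _ (pow_mem T.memy i) _ b.2) (inv_mem b.2)⟩) fun b c => Subtype.ext (by
        have h1 : Commute (b : G)⁻¹ (y ^ i * c * (y ^ i)⁻¹ * (c : G)⁻¹) := (T.comm _ b.2 _
          (mul_mem (T.normal _ (pow_mem T.memy i) _ c.2) (inv_mem c.2))).inv_left
        show y ^ i * ((b : G) * c) * (y ^ i)⁻¹ * ((b : G) * c)⁻¹ =
          y ^ i * b * (y ^ i)⁻¹ * (b : G)⁻¹ * (y ^ i * c * (y ^ i)⁻¹ * (c : G)⁻¹)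
        rw [mul_assoc (y ^ i * (b : G) * (y ^ i)⁻¹) (b : G)⁻¹, h1.eq]
        group), fun _ => rfl⟩
  have hker : ∀ (i : ℕ) (f : ↥A →* ↥A), ¬ l ∣ i →
      (∀ b : ↥A, (f b : G) = y ^ i * b * (y ^ i)⁻¹ * (b : G)⁻¹) →
      Nat.card ↥f.ker = l := by
    intro i f hi hf
    have he : f.ker = (zpowers w).subgroupOf A := by
      ext b
      rw [MonoidHom.mem_ker, mem_subgroupOf, ← T.cent_A B, mem_inf, mem_centralizer_singleton_iff,
        Subtype.ext_iff, hf, OneMemClass.coe_one, mul_inv_eq_one, mul_inv_eq_iff_eq_mul]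
      constructor
      · intro h
        obtain ⟨j, hj⟩ := mem_zpowers_iff.1 (B.self_mem_pow_y hi)
        refine ⟨b.2, ?_⟩
        have := (show Commute (b : G) (y ^ i) from h.symm).zpow_right j
        rw [hj] at this
        exact this.eq
      · exact fun h => ((show Commute (b : G) y from h.2).pow_right i).eq.symm
    rw [he, Nat.card_congr (subgroupOfEquivOfLe (zpowers_le.2 T.memw)).toEquiv, Nat.card_zpowers,
      B.ordw]
  have hidx : ∀ (i : ℕ) (f : ↥A →* ↥A), ¬ l ∣ i →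
      (∀ b : ↥A, (f b : G) = y ^ i * b * (y ^ i)⁻¹ * (b : G)⁻¹) → f.range.index = l := by
    intro i f hi hf
    have h1 := f.ker.card_mul_index
    rw [index_ker, hker i f hi hf, ← f.range.card_mul_index] at h1
    refine (Nat.eq_of_mul_eq_mul_left (Nat.card_pos : 0 < Nat.card ↥f.range) ?_)
    rw [← h1, mul_comm]
  obtain ⟨f, hf⟩ := key i
  obtain ⟨g, hg⟩ := key 1
  simp only [pow_one] at hg
  have h11 : ¬ l ∣ 1 := fun h => (Fact.out : l.Prime).one_lt.ne' (Nat.dvd_one.1 h)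
  -- `[A, yⁿ] ≤ [A, y]`
  have hsub : ∀ (n : ℕ) (b : ↥A), y ^ n * b * (y ^ n)⁻¹ * (b : G)⁻¹ ∈ g.range.map A.subtype := by
    intro n
    induction n with
    | zero =>
      intro b
      simp
    | succ n ih =>
      intro b
      rw [show y ^ (n + 1) * b * (y ^ (n + 1))⁻¹ * (b : G)⁻¹ =
        y * (y ^ n * b * (y ^ n)⁻¹) * y⁻¹ * (y ^ n * b * (y ^ n)⁻¹)⁻¹ *
          (y ^ n * b * (y ^ n)⁻¹ * (b : G)⁻¹) by rw [pow_succ']; group]
      refine mul_mem ⟨g ⟨_, T.normal _ (pow_mem T.memy n) _ b.2⟩, ⟨_, rfl⟩, ?_⟩ (ih b)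
      exact hg _
  have heq : g.range.map A.subtype = ⁅D, D⁆ := by
    refine le_antisymm ?_ (commutator_le.2 fun a ha b hb => ?_)
    · rintro _ ⟨_, ⟨b, rfl⟩, rfl⟩
      show ((g b : ↥A) : G) ∈ ⁅D, D⁆
      rw [hg, ← commutatorElement_def]
      exact commutator_mem_commutator T.memy (T.le b.2)
    · obtain ⟨z, hz, haz⟩ := T.decomp a ha
      obtain ⟨z', hz', hbz⟩ := T.decomp b hb
      obtain ⟨n, rfl⟩ := (Submonoid.mem_powers_iff _ _).1 (mem_powers_iff_mem_zpowers.2 hz)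
      obtain ⟨n', rfl⟩ := (Submonoid.mem_powers_iff _ _).1 (mem_powers_iff_mem_zpowers.2 hz')
      set p := a * (y ^ n)⁻¹ with hp
      set q := b * (y ^ n')⁻¹ with hq
      have hyq := T.normal _ (pow_mem T.memy n) _ hbz
      have hyp := T.normal _ (pow_mem T.memy n') _ haz
      have hyy : Commute (y ^ n) (y ^ n') := Commute.pow_pow_self y n n'
      rw [show ⁅a, b⁆ = (y ^ n * q * (y ^ n)⁻¹ * q⁻¹) * (y ^ n' * p * (y ^ n')⁻¹ * p⁻¹)⁻¹ from ?_]
      · exact mul_mem (hsub n ⟨q, hbz⟩) (inv_mem (hsub n' ⟨p, haz⟩))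
      rw [show a = p * y ^ n by rw [hp]; group, show b = q * y ^ n' by rw [hq]; group,
        commutatorElement_def]
      calc p * y ^ n * (q * y ^ n') * (p * y ^ n)⁻¹ * (q * y ^ n')⁻¹
          = p * (y ^ n * q * (y ^ n)⁻¹) * (y ^ n * y ^ n' * (y ^ n)⁻¹) * p⁻¹ *
              (y ^ n')⁻¹ * q⁻¹ := by group
        _ = p * (y ^ n * q * (y ^ n)⁻¹) * (y ^ n' * p⁻¹ * (y ^ n')⁻¹) * q⁻¹ := by
            rw [hyy.eq]; group
        _ = (y ^ n * q * (y ^ n)⁻¹) * (q⁻¹ * p) * (y ^ n' * p⁻¹ * (y ^ n')⁻¹) := by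
            rw [(T.comm _ haz _ hyq).eq]
            have h2 : Commute (y ^ n' * p⁻¹ * (y ^ n')⁻¹) q⁻¹ :=
              T.comm _ (T.normal _ (pow_mem T.memy n') _ (inv_mem haz)) _ (inv_mem hbz)
            have h3 : Commute p q⁻¹ := T.comm _ haz _ (inv_mem hbz)
            rw [mul_assoc ((y ^ n * q * (y ^ n)⁻¹) * p), h2.eq, ← h3.eq]
            group
        _ = _ := by group
  refine ⟨f, hf, hidx i f hi hf, ?_⟩
  rw [← heq]
  refine eq_of_le_of_card_ge ?_ ?_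
  · rintro _ ⟨_, ⟨b, rfl⟩, rfl⟩
    show ((f b : ↥A) : G) ∈ _
    rw [hf]
    exact hsub i b
  · rw [card_map_of_injective A.subtype_injective, card_map_of_injective A.subtype_injective]
    have h1 := f.range.card_mul_index
    rw [hidx i f hi hf, ← g.range.card_mul_index,
      hidx 1 g h11 (by simpa using hg)] at h1
    exact (Nat.eq_of_mul_eq_mul_right (Fact.out : l.Prime).pos h1).ge

theorem commutator_le (B : Base y w d K l e) (T : Struct y w d K l D A) : ⁅D, D⁆ ≤ A := by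
  obtain ⟨f, -, -, hf⟩ := T.exists_gamma B (i := 1)
    (fun h => (Fact.out : l.Prime).one_lt.ne' (Nat.dvd_one.1 h))
  rw [← hf]
  exact map_subtype_le _

/-- The classes `yⁱ D'`. -/
theorem exists_conj (B : Base y w d K l e) (T : Struct y w d K l D A) {i : ℕ} (hi : ¬ l ∣ i)
    {z : G} (hz : z ∈ ⁅D, D⁆) : ∃ b ∈ A, b * y ^ i * b⁻¹ = z * y ^ i := by
  obtain ⟨f, hf, -, hr⟩ := T.exists_gamma B hi
  obtain ⟨_, ⟨b, rfl⟩, hb⟩ := hr.symm ▸ hz
  refine ⟨(b : G)⁻¹, inv_mem b.2, ?_⟩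
  have hc : Commute (b : G)⁻¹ (y ^ i * b * (y ^ i)⁻¹) :=
    (T.comm _ b.2 _ (T.normal _ (pow_mem T.memy i) _ b.2)).inv_left
  have hb' : ((f b : ↥A) : G) = z := hb
  rw [← hb', hf, ← hc.eq]
  group

/-- The projection onto `⟨y⟩`. -/
theorem exists_tau (T : Struct y w d K l D A) :
    ∃ τ : ↥D →* G, (∀ g, τ g ∈ zpowers y) ∧ (∀ g : ↥D, (g : G) * (τ g)⁻¹ ∈ A) ∧
      ∀ (g : ↥D) (z : G), z ∈ zpowers y → (g : G) * z⁻¹ ∈ A → τ g = z := by
  classical
  choose f hf using fun g : ↥D => T.decomp g g.2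
  have huniq : ∀ (g : ↥D) (z : G), z ∈ zpowers y → (g : G) * z⁻¹ ∈ A → f g = z := by
    intro g z hz hgz
    have h1 : z * (f g)⁻¹ ∈ A := by
      have := mul_mem (inv_mem hgz) (hf g).2
      rwa [mul_inv_rev, inv_inv, mul_assoc, inv_mul_cancel_left] at this
    exact (mul_inv_eq_one.1 (T.inf _ h1 (mul_mem hz (inv_mem (hf g).1)))).symm
  refine ⟨MonoidHom.mk' f fun g g' => huniq _ _ (mul_mem (hf g).1 (hf g').1) ?_,
    fun g => (hf g).1, fun g => (hf g).2, huniq⟩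
  rw [Subgroup.coe_mul, show (g : G) * g' * (f g * f g')⁻¹ =
    (g : G) * ((g' : G) * (f g')⁻¹) * (g : G)⁻¹ * ((g : G) * (f g)⁻¹) by group]
  exact mul_mem (T.normal _ g.2 _ (hf g').2) (hf g).2

end Struct

end Cfsg.Agent.Lib.Walter.NoField.Chain
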