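import Cfsg.Agent.Lib.Walter.NoField.Chain.Base
import Cfsg.Agent.Lib.Walter.NoField.SmallPrime.Plane
import Cfsg.Agent.Lib.Resistant67.Basic

/-!
# Section Z, chain: `N(D)` on the Frattini quotient of a structured subgroup

In the coordinates given by `y` and `a₀ ∈ A ∖ D'` the image of `N(D)` maps `(1,0)` to no other
multiple of itself, and the kernel has `l`-power index over `C(D)`.

Owner: helper87.
-/

set_option autoImplicit false
set_option linter.style.haveILetI false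
set_option linter.unusedSectionVars false

universe u

namespace Cfsg.Agent.Lib.Walter.NoField.Chain

open Subgroup Matrix
open scoped commutatorElement MatrixGroups

variable {G : Type u} [Group G] [Finite G] {y w d : G} {K l e : ℕ} [Fact l.Prime]
  {D A : Subgroup G}

/-- Coordinates `χ` on `D` and the action `ρ` of `N(D)` in them. -/
structure Coord (y d : G) (K l : ℕ) [Fact l.Prime] (D A : Subgroup G) (a₀ : G)
    (χ : ↥D →* Multiplicative (Fin 2 → ZMod l))
    (ρ : ↥(normalizer (D : Set G)) →* GL (Fin 2) (ZMod l)) : Prop where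
  mem : a₀ ∈ A
  mem' : a₀ ∈ D
  basis_y : ∀ v : ↥D, (v : G) = y → χ v = Multiplicative.ofAdd ![1, 0]
  basis_a : ∀ v : ↥D, (v : G) = a₀ → χ v = Multiplicative.ofAdd ![0, 1]
  first : ∀ (v : ↥D) (i : ℕ), (v : G) * (y ^ i)⁻¹ ∈ A → (χ v).toAdd 0 = i
  second : ∀ v : ↥D, (χ v).toAdd 1 = 0 → ∀ z ∈ zpowers y, (v : G) * z⁻¹ ∈ A →
    (v : G) * z⁻¹ ∈ ⁅D, D⁆
  apply : ∀ (g : ↥(normalizer (D : Set G))) (v v' : ↥D), (v' : G) = g * v * (g : G)⁻¹ →
    (χ v').toAdd = (ρ g : Matrix (Fin 2) (Fin 2) (ZMod l)) *ᵥ (χ v).toAdd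
  ker : ∀ g : ↥(normalizer (D : Set G)), ρ g = 1 →
    ∃ k, (g : G) ^ l ^ k ∈ centralizer (D : Set G)
  noScalar : SmallPrime.NoScalar ρ.range
  inner : ∀ g : ↥(normalizer (D : Set G)), (g : G) ∈ D → ρ g = 1
  line : ∀ g : ↥(normalizer (D : Set G)), (ρ g : Matrix (Fin 2) (Fin 2) (ZMod l)) 1 0 = 0 →
    ∃ c ∈ D, (g : G) * y * (g : G)⁻¹ = c * y * c⁻¹
  diag : ∀ g : ↥(normalizer (D : Set G)), (g : G) = d →
    (ρ g : Matrix (Fin 2) (Fin 2) (ZMod l)) = !![1, 0; 0, (K : ZMod l)]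

theorem orderOf_ofAdd_one : orderOf (Multiplicative.ofAdd (1 : ZMod l)) = l := by
  rw [orderOf_ofAdd_eq_addOrderOf, ZMod.addOrderOf_one]

theorem Struct.exists_coord (B : Base y w d K l e) (T : Struct y w d K l D A) :
    ∃ a₀ χ ρ, Coord y d K l D A a₀ χ ρ := by
  classical
  have hlp : l.Prime := Fact.out
  obtain ⟨τ, hτy, hτA, hτu⟩ := T.exists_tau
  obtain ⟨f, -, hidx, hfD⟩ := T.exists_gamma B (i := 1) (fun h => hlp.one_lt.ne' (Nat.dvd_one.1 h))
  haveI : f.range.Normal := ⟨fun n hn g => by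
    have : Commute g n := Subtype.ext (T.comm _ g.2 _ n.2).eq
    rwa [this.eq, mul_inv_cancel_right]⟩
  have hmemD : ∀ b : ↥A, b ∈ f.range ↔ (b : G) ∈ ⁅D, D⁆ := fun b => by
    rw [← hfD]
    exact (mem_map_iff_mem A.subtype_injective).symm
  obtain ⟨a, ha⟩ : ∃ a : ↥A, a ∉ f.range := by
    by_contra h
    push Not at h
    rw [index_eq_one.2 (eq_top_iff.2 fun b _ => h b)] at hidx
    exact hlp.one_lt.ne hidx
  have hcq : Nat.card (↥A ⧸ f.range) = l := hidx
  have ha1 : QuotientGroup.mk' f.range a ≠ 1 := fun h => ha ((QuotientGroup.eq_one_iff a).1 h)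
  have hgenA : ∀ q : ↥A ⧸ f.range, q ∈ zpowers (QuotientGroup.mk' f.range a) := fun _ =>
    mem_zpowers_of_prime_card hcq ha1
  have hoa : orderOf (QuotientGroup.mk' f.range a) = l :=
    orderOf_eq_prime (by rw [← hcq, pow_card_eq_one']) ha1
  let φA : ↥A ⧸ f.range →* Multiplicative (ZMod l) :=
    monoidHomOfForallMemZpowers (g' := Multiplicative.ofAdd (1 : ZMod l)) hgenA
      (by rw [orderOf_ofAdd_one, hoa])
  have hφA : φA (QuotientGroup.mk' f.range a) = Multiplicative.ofAdd 1 :=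
    monoidHomOfForallMemZpowers_apply_gen _ _
  let ψ : ↥A →* Multiplicative (ZMod l) := φA.comp (QuotientGroup.mk' f.range)
  have hψa : ψ a = Multiplicative.ofAdd 1 := hφA
  have hψ1 : ∀ b : ↥A, (b : G) ∈ ⁅D, D⁆ → ψ b = 1 := fun b hb => by
    show φA (QuotientGroup.mk' f.range b) = 1
    rw [show QuotientGroup.mk' f.range b = 1 from (QuotientGroup.eq_one_iff b).2 ((hmemD b).2 hb),
      map_one]
  have hψker : ∀ b : ↥A, ψ b = 1 → (b : G) ∈ ⁅D, D⁆ := by
    intro b hb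
    refine (hmemD b).1 ((QuotientGroup.eq_one_iff b).1 ?_)
    obtain ⟨j, hj⟩ := mem_zpowers_iff.1 (hgenA (QuotientGroup.mk' f.range b))
    have h1 : φA (QuotientGroup.mk' f.range b) = 1 := hb
    rw [← hj, map_zpow, hφA, ← orderOf_dvd_iff_zpow_eq_one,
      orderOf_ofAdd_one] at h1
    rw [← QuotientGroup.mk'_apply, ← hj, ← orderOf_dvd_iff_zpow_eq_one, hoa]
    exact h1
  let yZ : ↥(zpowers y) := ⟨y, mem_zpowers y⟩
  have hgenY : ∀ z : ↥(zpowers y), z ∈ zpowers yZ := fun z => by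
    obtain ⟨i, hi⟩ := mem_zpowers_iff.1 z.2
    exact mem_zpowers_iff.2 ⟨i, Subtype.ext (by simpa [yZ] using hi)⟩
  let ε : ↥(zpowers y) →* Multiplicative (ZMod l) :=
    monoidHomOfForallMemZpowers (g' := Multiplicative.ofAdd (1 : ZMod l)) hgenY
      (by
        rw [orderOf_ofAdd_one, ← Subgroup.orderOf_coe]
        show l ∣ orderOf y
        rw [B.ordy]
        exact dvd_pow_self l (by have := B.one_le; omega))
  have hεy : ε yZ = Multiplicative.ofAdd 1 := monoidHomOfForallMemZpowers_apply_gen _ _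
  let p : ↥D → ↥A := fun g => ⟨(g : G) * (τ g)⁻¹, hτA g⟩
  have hp : ∀ g g' : ↥D, ψ (p (g * g')) = ψ (p g) * ψ (p g') := by
    intro g g'
    have hm : (g : G) * p g' * (g : G)⁻¹ ∈ A := T.normal _ g.2 _ (p g').2
    have h1 : p (g * g') = ⟨_, hm⟩ * p g := Subtype.ext (by
      show (g : G) * g' * (τ (g * g'))⁻¹ =
        (g : G) * ((g' : G) * (τ g')⁻¹) * (g : G)⁻¹ * ((g : G) * (τ g)⁻¹)
      rw [map_mul]
      group)
    have h2 : ψ ⟨_, hm⟩ = ψ (p g') := by
      rw [← mul_inv_eq_one, ← map_inv, ← map_mul]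
      refine hψ1 _ ?_
      show (g : G) * p g' * (g : G)⁻¹ * (p g' : G)⁻¹ ∈ _
      rw [← commutatorElement_def]
      exact commutator_mem_commutator g.2 (T.le (p g').2)
    rw [h1, map_mul, h2, mul_comm]
  let χ : ↥D →* Multiplicative (Fin 2 → ZMod l) := MonoidHom.mk'
    (fun g => Multiplicative.ofAdd ![(ε ⟨τ g, hτy g⟩).toAdd, (ψ (p g)).toAdd]) fun g g' => by
      have h1 : ε ⟨τ (g * g'), hτy _⟩ = ε ⟨τ g, hτy g⟩ * ε ⟨τ g', hτy g'⟩ := by
        rw [← map_mul]
        exact congrArg ε (Subtype.ext (map_mul τ g g'))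
      rw [h1, hp, ← ofAdd_add]
      refine congrArg _ ?_
      ext i
      fin_cases i <;> rfl
  have hχ : ∀ g, (χ g).toAdd = ![(ε ⟨τ g, hτy g⟩).toAdd, (ψ (p g)).toAdd] := fun _ => rfl
  have haD : (a : G) ∈ D := T.le a.2
  have first : ∀ (v : ↥D) (i : ℕ), (v : G) * (y ^ i)⁻¹ ∈ A → (χ v).toAdd 0 = i := by
    intro v i hv
    have h1 : (⟨τ v, hτy v⟩ : ↥(zpowers y)) = yZ ^ i :=
      Subtype.ext (hτu v _ (pow_mem (mem_zpowers y) i) hv)
    rw [hχ]
    show (ε ⟨τ v, hτy v⟩).toAdd = i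
    rw [h1, map_pow, hεy, toAdd_pow, toAdd_ofAdd, nsmul_one]
  have second : ∀ v : ↥D, (χ v).toAdd 1 = 0 → ∀ z ∈ zpowers y, (v : G) * z⁻¹ ∈ A →
      (v : G) * z⁻¹ ∈ ⁅D, D⁆ := by
    intro v hv z hz hvz
    rw [hχ] at hv
    have h1 := hψker (p v) (Multiplicative.toAdd.injective hv)
    rwa [show (p v : G) = (v : G) * z⁻¹ by
      show (v : G) * (τ v)⁻¹ = _
      rw [hτu v z hz hvz]] at h1
  have basis_y : ∀ v : ↥D, (v : G) = y → χ v = Multiplicative.ofAdd ![1, 0] := by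
    intro v hv
    refine Multiplicative.toAdd.injective ?_
    have h1 : τ v = y := hτu v _ (mem_zpowers y) (by rw [hv, mul_inv_cancel]; exact one_mem A)
    have h2 : p v = 1 := Subtype.ext (by
      show (v : G) * (τ v)⁻¹ = 1
      rw [h1, hv, mul_inv_cancel])
    rw [hχ, h2, show (⟨τ v, hτy v⟩ : ↥(zpowers y)) = yZ from Subtype.ext h1, hεy, show ψ 1 = 1 from map_one ψ]
    rfl
  have basis_a : ∀ v : ↥D, (v : G) = a → χ v = Multiplicative.ofAdd ![0, 1] := by
    intro v hv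
    refine Multiplicative.toAdd.injective ?_
    have h1 : τ v = 1 := hτu v 1 (one_mem _) (by rw [hv, inv_one, mul_one]; exact a.2)
    have h2 : p v = a := Subtype.ext (by
      show (v : G) * (τ v)⁻¹ = a
      rw [h1, hv, inv_one, mul_one])
    rw [hχ, h2, show (⟨τ v, hτy v⟩ : ↥(zpowers y)) = 1 from Subtype.ext h1, show ε 1 = 1 from map_one ε, hψa]
    rfl
  -- the Frattini subgroup
  have hfr : ∀ v : ↥D, χ v = 1 → v ∈ frattini ↥D := by
    intro v hv
    obtain ⟨i, hi⟩ := (Submonoid.mem_powers_iff _ _).1 (mem_powers_iff_mem_zpowers.2 (hτy v))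
    have hi' : y ^ i = τ v := hi
    have h0 := first v i (hi' ▸ hτA v)
    rw [hv] at h0
    obtain ⟨c, rfl⟩ := (ZMod.natCast_eq_zero_iff i l).1 h0.symm
    have hm := second v (by rw [hv]; rfl) _ (pow_mem (mem_zpowers y) (l * c)) (hi' ▸ hτA v)
    have hmD : (v : G) * (y ^ (l * c))⁻¹ ∈ D := T.le (hi' ▸ hτA v)
    have hcom : (⟨_, hmD⟩ : ↥D) ∈ _root_.commutator ↥D := by
      rw [← map_subtype_commutator, mem_map] at hm
      obtain ⟨u, hu, hue⟩ := hm
      rwa [show (⟨_, hmD⟩ : ↥D) = u from Subtype.ext hue.symm]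
    have e : v = ⟨_, hmD⟩ * ((⟨y, T.memy⟩ : ↥D) ^ c) ^ l := Subtype.ext (by
      simp only [Subgroup.coe_mul, SubmonoidClass.coe_pow]
      rw [← pow_mul, mul_comm c, inv_mul_cancel_right])
    rw [e]
    exact mul_mem (PGroups.commutator_le_frattini T.pgroup hcom)
      (PGroups.pow_mem_frattini T.pgroup _)
  set yD : ↥D := ⟨y, T.memy⟩ with hyD
  set aD : ↥D := ⟨a, haD⟩ with haD'
  have hgen : closure ({yD, aD} : Set ↥D) = ⊤ := by
    refine frattini_nongenerating (eq_top_iff.2 fun v _ => ?_)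
    have hb : χ (aD ^ ((χ v).toAdd 1).val * yD ^ ((χ v).toAdd 0).val) = χ v := by
      refine Multiplicative.toAdd.injective ?_
      rw [map_mul, map_pow, map_pow, basis_y yD rfl, basis_a aD rfl, toAdd_mul, toAdd_pow,
        toAdd_pow, toAdd_ofAdd, toAdd_ofAdd]
      funext j
      fin_cases j <;> simp
    set u := aD ^ ((χ v).toAdd 1).val * yD ^ ((χ v).toAdd 0).val with hu
    rw [show v = u * (u⁻¹ * v) by group]
    exact mul_mem_sup (mul_mem (pow_mem (Subgroup.subset_closure (k := ({yD, aD} : Set ↥D)) (Or.inr rfl)) _)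
      (pow_mem (Subgroup.subset_closure (k := ({yD, aD} : Set ↥D)) (Or.inl rfl)) _)) (hfr _ (by rw [map_mul, map_inv, hb, inv_mul_cancel]))
  -- the action
  set N := normalizer (D : Set G) with hN
  let gen : Fin 2 → ↥D := ![yD, aD]
  let M : ↥N → Matrix (Fin 2) (Fin 2) (ZMod l) := fun g =>
    Matrix.of fun i j => (χ (Subgroup.normalizerMonoidHom D g (gen j))).toAdd i
  have hM : ∀ (g : ↥N) (v : ↥D),
      (χ (Subgroup.normalizerMonoidHom D g v)).toAdd = M g *ᵥ (χ v).toAdd := by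
    intro g v
    let f₁ : ↥D →* Multiplicative (Fin 2 → ZMod l) :=
      χ.comp (Subgroup.normalizerMonoidHom D g).toMonoidHom
    let f₂ : ↥D →* Multiplicative (Fin 2 → ZMod l) :=
      (AddMonoidHom.toMultiplicative (M g).mulVecLin.toAddMonoidHom).comp χ
    have hf : f₁ = f₂ := by
      refine MonoidHom.eq_of_eqOn_dense hgen ?_
      rintro u (rfl | rfl) <;> refine Multiplicative.toAdd.injective ?_
      · show (χ (Subgroup.normalizerMonoidHom D g (gen 0))).toAdd = M g *ᵥ (χ yD).toAdd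
        rw [basis_y yD rfl, toAdd_ofAdd]
        funext i
        simp [M, Matrix.mulVec, dotProduct, Fin.sum_univ_two]
      · show (χ (Subgroup.normalizerMonoidHom D g (gen 1))).toAdd = M g *ᵥ (χ aD).toAdd
        rw [basis_a aD rfl, toAdd_ofAdd]
        funext i
        simp [M, Matrix.mulVec, dotProduct, Fin.sum_univ_two]
    exact congrArg Multiplicative.toAdd (DFunLike.congr_fun hf v)
  have hcol : ∀ j : Fin 2, (χ (gen j)).toAdd = fun i => if i = j then 1 else 0 := by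
    intro j
    fin_cases j
    · show (χ yD).toAdd = _
      rw [basis_y yD rfl, toAdd_ofAdd]
      funext i; fin_cases i <;> rfl
    · show (χ aD).toAdd = _
      rw [basis_a aD rfl, toAdd_ofAdd]
      funext i; fin_cases i <;> rfl
  have hM1 : M 1 = 1 := by
    ext i j
    show (χ (Subgroup.normalizerMonoidHom D 1 (gen j))).toAdd i = _
    rw [map_one, MulAut.one_apply, hcol, Matrix.one_apply]
  have hMm : ∀ g g' : ↥N, M (g * g') = M g * M g' := by
    intro g g'
    ext i j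
    show (χ (Subgroup.normalizerMonoidHom D (g * g') (gen j))).toAdd i = _
    rw [map_mul, MulAut.mul_apply, hM]
    rfl
  let ρ : ↥N →* GL (Fin 2) (ZMod l) :=
    ({ toFun := M, map_one' := hM1, map_mul' := hMm } :
      ↥N →* Matrix (Fin 2) (Fin 2) (ZMod l)).toHomUnits
  have hρ : ∀ g, (ρ g : Matrix (Fin 2) (Fin 2) (ZMod l)) = M g := fun _ => rfl
  have apply : ∀ (g : ↥N) (v v' : ↥D), (v' : G) = g * v * (g : G)⁻¹ →
      (χ v').toAdd = (ρ g : Matrix (Fin 2) (Fin 2) (ZMod l)) *ᵥ (χ v).toAdd := by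
    intro g v v' h
    rw [hρ, ← hM, show v' = Subgroup.normalizerMonoidHom D g v from Subtype.ext h]
  have hline : ∀ g : ↥N, (ρ g : Matrix (Fin 2) (Fin 2) (ZMod l)) 1 0 = 0 →
      (ρ g : Matrix (Fin 2) (Fin 2) (ZMod l)) 0 0 = 1 ∧
        ∃ c ∈ D, (g : G) * y * (g : G)⁻¹ = c * y * c⁻¹ := by
    intro g h10
    set v := Subgroup.normalizerMonoidHom D g yD with hv
    have hv' : (v : G) = (g : G) * y * (g : G)⁻¹ := rfl
    have hvcol : ∀ i, (χ v).toAdd i = (ρ g : Matrix (Fin 2) (Fin 2) (ZMod l)) i 0 := fun _ => rfl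
    obtain ⟨i, hi⟩ := (Submonoid.mem_powers_iff _ _).1 (mem_powers_iff_mem_zpowers.2 (hτy v))
    have hi' : y ^ i = τ v := hi
    have hvi : (v : G) * (y ^ i)⁻¹ ∈ A := hi' ▸ hτA v
    have h0 := first v i hvi
    have hm := second v (by rw [hvcol, h10]) _ (pow_mem (mem_zpowers y) i) hvi
    have hli : ¬ l ∣ i := by
      intro h
      have hz : (ρ g : Matrix (Fin 2) (Fin 2) (ZMod l)) 0 0 = 0 := by
        rw [← hvcol, h0]
        exact (ZMod.natCast_eq_zero_iff i l).2 h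
      have h1 : ((ρ g⁻¹ * ρ g : GL (Fin 2) (ZMod l)) : Matrix (Fin 2) (Fin 2) (ZMod l)) 0 0 = 1 := by
        rw [← map_mul, inv_mul_cancel, map_one]
        rfl
      rw [Units.val_mul, Matrix.mul_apply, Fin.sum_univ_two, h10, hz] at h1
      simp at h1
    obtain ⟨b, hb, hbe⟩ := T.exists_conj B hli hm
    have hbe' : b * y ^ i * b⁻¹ = (g : G) * y * (g : G)⁻¹ := by
      rw [hbe, inv_mul_cancel_right, hv']
    have hn := B.norm (b⁻¹ * g) (by
      rw [show b⁻¹ * (g : G) * y * (b⁻¹ * (g : G))⁻¹ = b⁻¹ * ((g : G) * y * (g : G)⁻¹) * b by group,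
        ← hbe']
      rw [show b⁻¹ * (b * y ^ i * b⁻¹) * b = y ^ i by group]
      exact pow_mem (mem_zpowers y) i)
    have hyi : y ^ i = y := by
      rw [show b⁻¹ * (g : G) * y * (b⁻¹ * (g : G))⁻¹ = b⁻¹ * ((g : G) * y * (g : G)⁻¹) * b by group,
        ← hbe', show b⁻¹ * (b * y ^ i * b⁻¹) * b = y ^ i by group] at hn
      exact hn
    refine ⟨?_, b, T.le hb, by rw [← hbe', hyi]⟩
    rw [← hvcol, h0, ← Nat.cast_one, ZMod.natCast_eq_natCast_iff]
    refine Nat.ModEq.of_dvd (dvd_pow_self l (show e ≠ 0 by have := B.one_le; omega)) ?_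
    rw [← B.ordy, ← pow_eq_pow_iff_modEq, pow_one]
    exact hyi
  refine ⟨a, χ, ρ, ⟨a.2, haD, basis_y, basis_a, first, second, apply, ?_, ?_, ?_,
    fun g h => (hline g h).2, ?_⟩⟩
  · -- the kernel
    intro g hg
    obtain ⟨k, m, hm, hgm⟩ := Nat.exists_eq_pow_mul_and_not_dvd (orderOf_pos g).ne' l hlp.ne_one
    refine ⟨k, ?_⟩
    set h := g ^ l ^ k with hh
    have hord : orderOf h ∣ m := orderOf_dvd_of_pow_eq_one (by
      rw [hh, ← pow_mul, ← hgm, pow_orderOf_eq_one])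
    have hcop : (orderOf h).Coprime l :=
      Nat.Coprime.coprime_dvd_left hord ((hlp.coprime_iff_not_dvd.2 hm).symm)
    have hσ : Subgroup.normalizerMonoidHom D h = 1 := by
      refine Resistant67.eq_one_of_trivial_frattini T.pgroup ?_ fun v => hfr _ ?_
      · exact Nat.Coprime.coprime_dvd_left (orderOf_map_dvd _ h) hcop
      · refine Multiplicative.toAdd.injective ?_
        have hρh : ρ h = 1 := by rw [hh, map_pow, hg, one_pow]
        rw [map_mul, map_inv, toAdd_mul, toAdd_inv, hM, ← hρ, hρh, Units.val_one, Matrix.one_mulVec]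
        simp
    refine mem_centralizer_iff.2 fun v hv => ?_
    have := congrArg Subtype.val (MulEquiv.congr_fun hσ ⟨v, hv⟩)
    rw [show (g : G) ^ l ^ k = (h : G) by rw [hh]; simp]
    exact (mul_inv_eq_iff_eq_mul.1 this).symm
  · rintro _ ⟨g, rfl⟩ h10
    exact (hline g h10).1
  · intro g hg
    refine Units.ext ?_
    rw [hρ, Units.val_one]
    ext i j
    show (χ (Subgroup.normalizerMonoidHom D g (gen j))).toAdd i = _
    have he : χ (⟨g, hg⟩ * gen j * (⟨g, hg⟩ : ↥D)⁻¹) = χ (gen j) := by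
      rw [map_mul, map_mul, map_inv, mul_right_comm, mul_inv_cancel, one_mul]
    rw [show Subgroup.normalizerMonoidHom D g (gen j) = ⟨g, hg⟩ * gen j * (⟨g, hg⟩ : ↥D)⁻¹ from
      Subtype.ext rfl, he, hcol, Matrix.one_apply]
  · intro g hg
    rw [hρ]
    ext i j
    show (χ (Subgroup.normalizerMonoidHom D g (gen j))).toAdd i = _
    have hj0 : Subgroup.normalizerMonoidHom D g (gen 0) = gen 0 := Subtype.ext (by
      show (g : G) * y * (g : G)⁻¹ = y
      rw [hg, B.d_fix (mem_zpowers y)])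
    have hj1 : Subgroup.normalizerMonoidHom D g (gen 1) = gen 1 ^ K := Subtype.ext (by
      show (g : G) * a * (g : G)⁻¹ = ((aD ^ K : ↥D) : G)
      rw [hg, T.scal _ a.2, SubmonoidClass.coe_pow])
    fin_cases j
    · show (χ (Subgroup.normalizerMonoidHom D g (gen 0))).toAdd i = _
      rw [hj0, hcol]
      fin_cases i <;> rfl
    · show (χ (Subgroup.normalizerMonoidHom D g (gen 1))).toAdd i = _
      rw [hj1, map_pow, toAdd_pow, hcol]
      fin_cases i <;> simp

end Cfsg.Agent.Lib.Walter.NoField.Chain
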