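import Cfsg.Agent.Lib.Walter.NoField.Chain.Step

/-!
# Section Z, chain: structure of the `d`-invariant `l`-subgroups over `⟨y, w⟩`

Owner: helper87.
-/

set_option autoImplicit false
set_option linter.style.haveILetI false
set_option linter.unusedSectionVars false

universe u

namespace Cfsg.Agent.Lib.Walter.NoField.Chain

open Subgroup
open scoped commutatorElement

variable {G : Type u} [Group G] [Finite G] {y w d : G} {K l e : ℕ} [Fact l.Prime]

set_option maxHeartbeats 1000000 in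
/-- From `M` to `D`. -/
theorem Struct.extend (B : Base y w d K l e) {M A D : Subgroup G} (T : Struct y w d K l M A)
    (hD : IsPGroup l ↥D) (hMD : M < D) (hn : D ≤ normalizer (M : Set G))
    (hdD : ∀ g ∈ D, d * g * d⁻¹ ∈ D) : ∃ A' : Subgroup G, Struct y w d K l D A' := by
  classical
  obtain ⟨g₀, hg₀, hg₀M⟩ := SetLike.exists_of_lt hMD
  obtain ⟨a₀, χ, ρ, C⟩ := T.exists_coord B
  obtain ⟨hent, hdec, hconj⟩ := C.unitriangular B T hD hMD.le hn hdD hg₀ hg₀M
  have hAn := C.normal_A B T hn hdD hMD.le hent hconj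
  have hyD : y ∈ D := hMD.le T.memy
  have hAD : A ≤ D := T.le.trans hMD.le
  haveI : (A.subgroupOf D).Normal :=
    ⟨fun v hv g => mem_subgroupOf.2 (hAn g g.2 v (mem_subgroupOf.1 hv))⟩
  set π := QuotientGroup.mk' (A.subgroupOf D) with hπ
  have hπ1 : ∀ v : ↥D, π v = 1 ↔ (v : G) ∈ A := fun v => by
    rw [hπ, QuotientGroup.mk'_apply, QuotientGroup.eq_one_iff, mem_subgroupOf]
  have hQ : IsPGroup l (↥D ⧸ A.subgroupOf D) := hD.to_quotient _
  let φ : ↥D →* ↥D := MonoidHom.mk' (fun v => ⟨d * v * d⁻¹, hdD v v.2⟩)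
    fun a b => Subtype.ext (by
      simp only [Subgroup.coe_mul]
      group)
  have hφA : A.subgroupOf D ≤ (A.subgroupOf D).comap φ := fun v hv => by
    rw [mem_comap, mem_subgroupOf]
    show d * (v : G) * d⁻¹ ∈ A
    rw [T.scal _ (mem_subgroupOf.1 hv)]
    exact pow_mem (mem_subgroupOf.1 hv) K
  let δ := QuotientGroup.map (A.subgroupOf D) (A.subgroupOf D) φ hφA
  have hδ : ∀ v, δ (π v) = π (φ v) := fun v => QuotientGroup.map_mk _ _ _ _ v
  set Y := π ⟨y, hyD⟩ with hY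
  set G0 := π ⟨g₀, hg₀⟩ with hG0
  have hM : ∀ (m : G) (hm : m ∈ M), π ⟨m, hMD.le hm⟩ ∈ zpowers Y := by
    intro m hm
    obtain ⟨z, hz, hmz⟩ := T.decomp m hm
    have hzD : z ∈ D := (zpowers_le.2 hyD) hz
    have h1 : π ⟨m, hMD.le hm⟩ = π ⟨z, hzD⟩ := by
      rw [← mul_inv_eq_one, ← map_inv, ← map_mul, hπ1]
      exact hmz
    obtain ⟨i, rfl⟩ := mem_zpowers_iff.1 hz
    rw [h1, show (⟨y ^ i, hzD⟩ : ↥D) = ⟨y, hyD⟩ ^ i from Subtype.ext (by simp), map_zpow]
    exact zpow_mem (mem_zpowers _) i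
  have hδY : ∀ v ∈ zpowers Y, δ v = v := by
    intro v hv
    obtain ⟨i, rfl⟩ := mem_zpowers_iff.1 hv
    rw [map_zpow, hY, hδ, show φ ⟨y, hyD⟩ = ⟨y, hyD⟩ from
      Subtype.ext (B.d_fix (mem_zpowers y))]
  obtain ⟨m₀, hm₀, hd₀⟩ := hconj g₀ hg₀
  set Ym := π ⟨m₀, hMD.le hm₀⟩ with hYm
  have hYmY : Ym ∈ zpowers Y := hM m₀ hm₀
  have hδ0 : δ G0 = Ym * G0 ^ K := by
    rw [hG0, hδ, hYm, ← map_pow, ← map_mul]
    exact congrArg π (Subtype.ext (by simpa [φ] using hd₀))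
  have hnY : ∀ (g : ↥D) (v : ↥D ⧸ A.subgroupOf D), v ∈ zpowers Y → π g * v * (π g)⁻¹ ∈ zpowers Y := by
    intro g v hv
    obtain ⟨i, rfl⟩ := mem_zpowers_iff.1 hv
    rw [← conj_zpow]
    refine zpow_mem ?_ i
    have he : π g * Y * (π g)⁻¹ = π ⟨g * y * (g : G)⁻¹,
        hMD.le ((mem_normalizer_iff.1 (hn g.2) y).1 T.memy)⟩ := by
      rw [hY, ← map_inv, ← map_mul, ← map_mul]
      rfl
    rw [he]
    exact hM _ ((mem_normalizer_iff.1 (hn g.2) y).1 T.memy)
  -- `Q` is commutative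
  have hc0 : Commute G0 Y := by
    set Z := G0 * Y * G0⁻¹ with hZ
    have hZY : Z ∈ zpowers Y := hnY ⟨g₀, hg₀⟩ Y (mem_zpowers Y)
    have hZ' : G0 ^ K * Y * (G0 ^ K)⁻¹ ∈ zpowers Y := by
      rw [hG0, ← map_pow]
      exact hnY _ Y (mem_zpowers Y)
    have h1 : δ Z = Z := hδY Z hZY
    rw [hZ, map_mul, map_mul, map_inv, hδY Y (mem_zpowers Y), hδ0] at h1
    have h2 : G0 ^ K * Y * (G0 ^ K)⁻¹ = G0 * Y * G0⁻¹ := by
      rw [← h1]
      obtain ⟨i, hi⟩ := mem_zpowers_iff.1 hYmY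
      obtain ⟨j, hj⟩ := mem_zpowers_iff.1 hZ'
      have hc : Commute Ym (G0 ^ K * Y * (G0 ^ K)⁻¹) := by
        rw [← hi, ← hj]; exact (Commute.refl Y).zpow_zpow i j
      calc G0 ^ K * Y * (G0 ^ K)⁻¹ = Ym * (G0 ^ K * Y * (G0 ^ K)⁻¹) * Ym⁻¹ := by
            rw [hc.eq, mul_inv_cancel_right]
        _ = _ := by group
    have hK1 : G0 ^ K = G0 * G0 ^ (K - 1) := by
      rw [← pow_succ', Nat.sub_add_cancel B.one_le_K]
    rw [hK1] at h2
    have h3 : Commute (G0 ^ (K - 1)) Y := by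
      refine mul_inv_eq_iff_eq_mul.1 (mul_left_cancel (a := G0) (mul_right_cancel (b := G0⁻¹) ?_))
      rw [← h2]
      group
    obtain ⟨k, hk⟩ := hQ G0
    obtain ⟨i, hi⟩ := mem_zpowers_iff.1 (self_mem_zpowers_pow hk B.not_dvd_pred)
    rw [← hi]
    exact h3.zpow_left i
  have hcY : ∀ v ∈ zpowers Y, Commute G0 v := fun v hv => by
    obtain ⟨i, rfl⟩ := mem_zpowers_iff.1 hv
    exact hc0.zpow_right i
  have hdecQ : ∀ g : ↥D, ∃ j : ℕ, ∃ v ∈ zpowers Y, π g = v * G0 ^ j := by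
    intro g
    obtain ⟨j, m, hm, hg⟩ := hdec g g.2
    refine ⟨j, π ⟨m, hMD.le hm⟩, hM m hm, ?_⟩
    rw [hG0, ← map_pow, ← map_mul]
    exact congrArg π (Subtype.ext (by simpa using hg))
  have hQcomm : ∀ a b : ↥D, Commute (π a) (π b) := by
    intro a b
    obtain ⟨j, v, hv, ha⟩ := hdecQ a
    obtain ⟨j', v', hv', hb⟩ := hdecQ b
    obtain ⟨i, hi⟩ := mem_zpowers_iff.1 hv
    obtain ⟨i', hi'⟩ := mem_zpowers_iff.1 hv'
    rw [ha, hb]
    refine ((?_ : Commute v (v' * G0 ^ j'))).mul_left (?_ : Commute (G0 ^ j) (v' * G0 ^ j'))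
    · exact (show Commute v v' by rw [← hi, ← hi']; exact (Commute.refl Y).zpow_zpow i i').mul_right
        ((hcY v hv).symm.pow_right j')
    · exact ((hcY v' hv').pow_left j).mul_right (Commute.pow_pow_self G0 j j')
  -- correct `g₀` by a power of `y`
  obtain ⟨V, hV, hVK⟩ : ∃ V ∈ zpowers Y, V ^ (K - 1) = Ym := by
    obtain ⟨k, hk⟩ := hQ Ym
    obtain ⟨i, hi⟩ := mem_zpowers_iff.1 (self_mem_zpowers_pow hk B.not_dvd_pred)
    refine ⟨Ym ^ i, zpow_mem hYmY i, ?_⟩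
    conv_rhs => rw [← hi]
    rw [← zpow_natCast, ← zpow_natCast, ← zpow_mul, ← zpow_mul, mul_comm]
  obtain ⟨s, hs⟩ := mem_zpowers_iff.1 hV
  set h : G := g₀ * y ^ s with hh
  have hhD : h ∈ D := mul_mem hg₀ (zpow_mem hyD s)
  set H0 := π ⟨h, hhD⟩ with hH0
  have hH : H0 = G0 * V := by
    rw [← hs, hY, hG0, hH0, ← map_zpow, ← map_mul]
    exact congrArg π (Subtype.ext (by simp [hh]))
  set η : G := d * h * d⁻¹ * (h ^ K)⁻¹ with hη
  have hηA : η ∈ A := by
    have h1 : π (φ ⟨h, hhD⟩) = H0 ^ K := by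
      rw [← hδ, ← hH0, hH, map_mul, hδY V hV, hδ0, (hcY V hV).mul_pow,
        mul_assoc, ((hcY V hV).pow_left K).eq, ← mul_assoc, ← hVK, ← pow_succ,
        Nat.sub_add_cancel B.one_le_K]
      exact ((hcY V hV).pow_pow K K).symm.eq
    have h2 : π (φ ⟨h, hhD⟩ * (⟨h, hhD⟩ ^ K)⁻¹) = 1 := by
      rw [map_mul, map_inv, map_pow, h1, hH0, mul_inv_cancel]
    exact (hπ1 _).1 h2
  have hdh : d * h * d⁻¹ = η * h ^ K := by rw [hη, inv_mul_cancel_right]
  obtain ⟨k₀, hk₀⟩ := exists_pow_eq_one hD hhD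
  -- `h` centralises `A`
  have hcA : ∀ c ∈ A, Commute h c := by
    have hAK : ∀ c ∈ A, ∃ c' ∈ A, c' ^ K = c := fun c hc => by
      obtain ⟨k, hk⟩ := exists_pow_eq_one T.pgroup (T.le hc)
      obtain ⟨i, hi⟩ := mem_zpowers_iff.1 (self_mem_zpowers_pow hk B.not_dvd_K)
      refine ⟨c ^ i, zpow_mem hc i, ?_⟩
      conv_rhs => rw [← hi]
      rw [← zpow_natCast, ← zpow_natCast, ← zpow_mul, ← zpow_mul, mul_comm]
    have h1 : ∀ c ∈ A, Commute (h ^ (K - 1)) c := by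
      intro c hc
      obtain ⟨c', hc', rfl⟩ := hAK c hc
      have hmem := hAn (h ^ K) (pow_mem hhD K) _ hc
      have e1 : h ^ K * c' ^ K * (h ^ K)⁻¹ = h * c' ^ K * h⁻¹ := by
        calc h ^ K * c' ^ K * (h ^ K)⁻¹ = η * (h ^ K * c' ^ K * (h ^ K)⁻¹) * η⁻¹ := by
              rw [(T.comm _ hηA _ hmem).eq, mul_inv_cancel_right]
          _ = (η * h ^ K) * c' ^ K * (η * h ^ K)⁻¹ := by group
          _ = (d * h * d⁻¹) * (d * c' * d⁻¹) * (d * h * d⁻¹)⁻¹ := by rw [hdh, T.scal c' hc']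
          _ = d * (h * c' * h⁻¹) * d⁻¹ := by group
          _ = (h * c' * h⁻¹) ^ K := T.scal _ (hAn h hhD c' hc')
          _ = h * c' ^ K * h⁻¹ := conj_pow
      have hK1 : h ^ K = h * h ^ (K - 1) := by
        rw [← pow_succ', Nat.sub_add_cancel B.one_le_K]
      refine mul_inv_eq_iff_eq_mul.1 (mul_left_cancel (a := h) (mul_right_cancel (b := h⁻¹) ?_))
      rw [← e1, hK1]
      group
    intro c hc
    obtain ⟨i, hi⟩ := mem_zpowers_iff.1 (self_mem_zpowers_pow hk₀ B.not_dvd_pred)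
    rw [← hi]
    exact (h1 c hc).zpow_left i
  have hscal : d * h * d⁻¹ = h ^ K := by
    have hit : ∀ n : ℕ, d ^ (n + 1) * h * (d ^ (n + 1))⁻¹ =
        h ^ K ^ (n + 1) * η ^ ((n + 1) * K ^ n) := by
      intro n
      induction n with
      | zero =>
        simp only [zero_add, pow_one, pow_zero, mul_one]
        rw [hdh, ((hcA η hηA).pow_left K).eq]
      | succ n ih =>
        rw [show d ^ (n + 1 + 1) * h * (d ^ (n + 1 + 1))⁻¹ =
            d * (d ^ (n + 1) * h * (d ^ (n + 1))⁻¹) * d⁻¹ by rw [pow_succ' d (n + 1)]; group, ih,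
          show d * (h ^ K ^ (n + 1) * η ^ ((n + 1) * K ^ n)) * d⁻¹ =
            (d * h ^ K ^ (n + 1) * d⁻¹) * (d * η ^ ((n + 1) * K ^ n) * d⁻¹) by group,
          ← conj_pow, ← conj_pow, hdh, T.scal η hηA,
          (((hcA η hηA).pow_left K).symm).mul_pow, ← pow_mul, ← pow_mul,
          ((hcA η hηA).pow_pow (K * K ^ (n + 1)) (K ^ (n + 1))).symm.eq, mul_assoc,
          ← pow_add]
        congr 2 <;> ring
    have ho : ordCompl[l] (Nat.card G) ≠ 0 := fun h0 => B.ordCompl_not_dvd (h0 ▸ dvd_zero l)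
    obtain ⟨n, hn'⟩ : ∃ n, ordCompl[l] (Nat.card G) = n + 1 := ⟨_, (Nat.succ_pred ho).symm⟩
    have h1 := hit n
    rw [← hn', B.dpow, inv_one, mul_one, one_mul, B.exp h k₀ hk₀, left_eq_mul] at h1
    have h2 : η = 1 := by
      obtain ⟨k, hk⟩ := exists_pow_eq_one T.pgroup (T.le hηA)
      refine eq_one_of_pow_eq_one hk ?_ h1
      rw [(Fact.out : l.Prime).dvd_mul, not_or]
      exact ⟨B.ordCompl_not_dvd, fun h' => B.not_dvd_K ((Fact.out : l.Prime).dvd_of_dvd_pow h')⟩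
    rw [hdh, h2, one_mul]
  -- the new subgroup
  have hgenc : ∀ a ∈ (A : Set G) ∪ {h}, ∀ b ∈ (A : Set G) ∪ {h}, Commute a b := by
    rintro a (ha | rfl) b (hb | rfl)
    exacts [T.comm a ha b hb, (hcA a ha).symm, hcA b hb, Commute.refl _]
  set A' := closure ((A : Set G) ∪ {h}) with hA'
  have hA'D : A' ≤ D := (closure_le _).2 (by
    rintro a (ha | rfl)
    exacts [hAD ha, hhD])
  have hcomm' : ∀ a ∈ A', ∀ b ∈ A', Commute a b := by
    have h1 : A' ≤ centralizer (A' : Set G) := by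
      rw [hA', centralizer_closure]
      exact (closure_le _).2 fun a ha => mem_centralizer_iff.2 fun b hb => (hgenc b hb a ha).eq
    exact fun a ha b hb => (mem_centralizer_iff.1 (h1 hb) a ha)
  have hscal' : ∀ a ∈ A', d * a * d⁻¹ = a ^ K := by
    intro a ha
    induction ha using closure_induction with
    | mem a ha =>
      rcases ha with ha | rfl
      exacts [T.scal a ha, hscal]
    | one => simp
    | mul p q hp hq ihp ihq =>
      rw [(hcomm' p hp q hq).mul_pow, ← ihp, ← ihq]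
      group
    | inv p hp ih =>
      rw [inv_pow, ← ih]
      group
  refine ⟨A', hD, hyD, subset_closure (Or.inl T.memw), hA'D, hcomm', fun g hg a ha => ?_,
    fun a ha hay => ?_, fun g hg => ?_, hscal'⟩
  · induction ha using closure_induction with
    | mem a ha =>
      rcases ha with ha | rfl
      · exact subset_closure (Or.inl (hAn g hg a ha))
      · have h1 : g * h * g⁻¹ * h⁻¹ ∈ A := by
          refine (hπ1 (⟨g, hg⟩ * ⟨h, hhD⟩ * (⟨g, hg⟩ : ↥D)⁻¹ * (⟨h, hhD⟩ : ↥D)⁻¹)).1 ?_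
          rw [map_mul, map_mul, map_mul, map_inv, map_inv,
            (hQcomm ⟨g, hg⟩ ⟨h, hhD⟩).eq, mul_inv_cancel_right, mul_inv_cancel]
        have := mul_mem (subset_closure (k := (A : Set G) ∪ {h}) (Or.inl h1))
          (subset_closure (k := (A : Set G) ∪ {h}) (Or.inr rfl))
        rwa [inv_mul_cancel_right] at this
    | one => rw [mul_one, mul_inv_cancel]; exact one_mem _
    | mul p q _ _ ihp ihq =>
      rw [show g * (p * q) * g⁻¹ = g * p * g⁻¹ * (g * q * g⁻¹) by group]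
      exact mul_mem ihp ihq
    | inv p _ ih => rw [← conj_inv]; exact inv_mem ih
  · obtain ⟨k, hk⟩ := exists_pow_eq_one hD (hA'D ha)
    exact B.eq_one_of_fixed hk ((hscal' a ha).symm.trans (B.d_fix hay))
  · obtain ⟨j, v, hv, hgv⟩ := hdecQ ⟨g, hg⟩
    have hz : v * (V ^ j)⁻¹ ∈ zpowers Y := mul_mem hv (inv_mem (pow_mem hV j))
    obtain ⟨i, hi⟩ := mem_zpowers_iff.1 hz
    refine ⟨y ^ i, zpow_mem (mem_zpowers y) i, ?_⟩
    have h1 : π (⟨g, hg⟩ * ((⟨y, hyD⟩ : ↥D) ^ i)⁻¹ * ((⟨h, hhD⟩ : ↥D) ^ j)⁻¹) = 1 := by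
      rw [map_mul, map_mul, map_inv, map_inv, map_zpow, map_pow, hgv, ← hY, hi, ← hH0, hH,
        (hcY V hV).mul_pow]
      obtain ⟨i', hi'⟩ := mem_zpowers_iff.1 hv
      obtain ⟨s', hs'⟩ := mem_zpowers_iff.1 (pow_mem hV j)
      have hc : Commute v (V ^ j) := by
        rw [← hi', ← hs']; exact (Commute.refl Y).zpow_zpow i' s'
      have hc' : Commute (G0 ^ j) (V ^ j * v⁻¹) :=
        ((hcY V hV).pow_pow j j).mul_right ((hcY v hv).pow_left j).inv_right
      rw [mul_inv_rev, inv_inv, mul_assoc v, hc'.eq, ← mul_assoc, ← mul_assoc, hc.eq,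
        mul_inv_cancel_right, ← ((hcY V hV).pow_pow j j).eq, mul_inv_cancel]
    have h2 : g * (y ^ i)⁻¹ * (h ^ j)⁻¹ ∈ A := by
      have := (hπ1 _).1 h1
      simpa using this
    have := mul_mem (subset_closure (k := (A : Set G) ∪ {h}) (Or.inl h2))
      (pow_mem (subset_closure (k := (A : Set G) ∪ {h}) (Or.inr rfl)) j)
    rwa [inv_mul_cancel_right] at this

/-- Every `d`-invariant `l`-subgroup over `⟨y, w⟩` is structured. -/
theorem Base.exists_struct (B : Base y w d K l e) :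
    ∀ {D : Subgroup G}, IsPGroup l ↥D → y ∈ D → w ∈ D → (∀ g ∈ D, d * g * d⁻¹ ∈ D) →
      ∃ A : Subgroup G, Struct y w d K l D A := by
  suffices h : ∀ (n : ℕ) (D : Subgroup G), Nat.card ↥D = n → IsPGroup l ↥D → y ∈ D → w ∈ D →
      (∀ g ∈ D, d * g * d⁻¹ ∈ D) → ∃ A : Subgroup G, Struct y w d K l D A from
    fun {D} => h _ D rfl
  intro n
  induction n using Nat.strong_induction_on with
  | _ n ih =>
    intro D hn hD hy hw hdD
    by_cases hP : D ≤ zpowers y ⊔ zpowers w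
    · exact ⟨zpowers w, B.struct_P hD hy hw hP⟩
    have hdP : ∀ g ∈ zpowers y ⊔ zpowers w, d * g * d⁻¹ ∈ zpowers y ⊔ zpowers w := by
      intro g hg
      refine (show (zpowers y ⊔ zpowers w).map (MulAut.conj d).toMonoidHom ≤
        zpowers y ⊔ zpowers w from ?_) ⟨g, hg, rfl⟩
      rw [Subgroup.map_sup, MonoidHom.map_zpowers, MonoidHom.map_zpowers]
      refine sup_le (zpowers_le.2 ?_) (zpowers_le.2 ?_)
      · show d * y * d⁻¹ ∈ _
        rw [B.d_fix (mem_zpowers y)]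
        exact mem_sup_left (mem_zpowers y)
      · show d * w * d⁻¹ ∈ _
        rw [B.dw]
        exact mem_sup_right (pow_mem (mem_zpowers w) K)
    obtain ⟨M, hM, hmax⟩ := (Set.toFinite {M : Subgroup G | zpowers y ⊔ zpowers w ≤ M ∧ M < D ∧
      ∀ g ∈ M, d * g * d⁻¹ ∈ M}).exists_maximal
        ⟨zpowers y ⊔ zpowers w, le_rfl, lt_of_le_not_ge
          (sup_le (zpowers_le.2 hy) (zpowers_le.2 hw)) hP, hdP⟩
    obtain ⟨hPM, hMD, hdM⟩ := hM
    have hn' : D ≤ normalizer (M : Set G) := by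
      set N := D ⊓ normalizer (M : Set G) with hN
      have hMN : M ≤ N := le_inf hMD.le le_normalizer
      by_contra hcon
      have hND : N < D := lt_of_le_of_ne inf_le_left fun h => hcon (h.ge.trans inf_le_right)
      have hdn : d ∈ normalizer (M : Set G) := mem_normalizer_fintype hdM
      have hNM : N = M := le_antisymm (hmax ⟨hPM.trans hMN, hND, fun g hg =>
        mem_inf.2 ⟨hdD g (mem_inf.1 hg).1,
          mul_mem (mul_mem hdn (mem_inf.1 hg).2) (inv_mem hdn)⟩⟩ hMN) hMN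
      haveI : Group.IsNilpotent ↥D := hD.isNilpotent
      have hlt : M.subgroupOf D < ⊤ := by
        rw [lt_top_iff_ne_top, Ne, subgroupOf_eq_top]
        exact fun h => hMD.not_ge h
      obtain ⟨v, hv, hvM⟩ := SetLike.exists_of_lt
        (Group.normalizerCondition_of_isNilpotent _ hlt)
      refine hvM (mem_subgroupOf.2 (hNM.le ⟨v.2, mem_normalizer_fintype fun a ha => ?_⟩))
      exact mem_subgroupOf.1 ((mem_normalizer_iff.1 hv ⟨a, hMD.le ha⟩).1 (mem_subgroupOf.2 ha))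
    have hlt' : Nat.card ↥M < n := hn ▸ lt_of_not_ge fun h =>
      hMD.ne (eq_of_le_of_card_ge hMD.le h)
    obtain ⟨A, T⟩ := ih _ hlt' M rfl (hD.to_le hMD.le) (hPM (mem_sup_left (mem_zpowers y)))
      (hPM (mem_sup_right (mem_zpowers w))) hdM
    exact T.extend B hD hMD hn' hdD

end Cfsg.Agent.Lib.Walter.NoField.Chain
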