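import Cfsg.Agent.Lib.Walter.NoField.Chain.Coord
import Mathlib.LinearAlgebra.Matrix.GeneralLinearGroup.Card

/-!
# Section Z, chain: every `d`-invariant `l`-subgroup over `⟨y, w⟩` is structured

For a structured `M` of index `l` in `D`, `D` acts on the coordinates of `M` by lower unitriangular
matrices, so it normalises `A`; in `D/A` an element outside `M` can be corrected by a power of `y`
so that `d` raises it to the `K`-th power, and it then centralises `A`.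

Owner: helper87.
-/

set_option autoImplicit false
set_option linter.style.haveILetI false
set_option linter.unusedSectionVars false

universe u

namespace Cfsg.Agent.Lib.Walter.NoField.Chain

open Subgroup Matrix
open scoped commutatorElement MatrixGroups

variable {G : Type u} [Group G] [Finite G] {y w d : G} {K l e : ℕ} [Fact l.Prime]
  {M A : Subgroup G} {a₀ : G} {χ : ↥M →* Multiplicative (Fin 2 → ZMod l)}
  {ρ : ↥(normalizer (M : Set G)) →* GL (Fin 2) (ZMod l)}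

theorem conj_commutator {g z : G} (hg : g ∈ normalizer (M : Set G)) (hz : z ∈ ⁅M, M⁆) :
    g * z * g⁻¹ ∈ ⁅M, M⁆ := by
  have hle : M.map (MulAut.conj g).toMonoidHom ≤ M := by
    rintro _ ⟨v, hv, rfl⟩
    exact (mem_normalizer_iff.1 hg v).1 hv
  have h : g * z * g⁻¹ ∈ (⁅M, M⁆).map (MulAut.conj g).toMonoidHom := ⟨z, hz, rfl⟩
  rw [map_commutator] at h
  exact commutator_mono hle hle h

namespace Coord

variable (C : Coord y d K l M A a₀ χ ρ)
include C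

theorem pow_mem_commutator : a₀ ^ l ∈ ⁅M, M⁆ := by
  have hA : (⟨a₀, C.mem'⟩ ^ l : ↥M).1 * (1 : G)⁻¹ ∈ A := by
    rw [inv_one, mul_one, SubmonoidClass.coe_pow]
    exact pow_mem C.mem l
  have h := C.second _ (by
    rw [map_pow, toAdd_pow, C.basis_a ⟨a₀, C.mem'⟩ rfl]
    simp) 1 (one_mem _) hA
  rwa [inv_one, mul_one, SubmonoidClass.coe_pow] at h

theorem mem_commutator_of_zero (T : Struct y w d K l M A) {b : G} (hb : b ∈ A)
    (h : (χ ⟨b, T.le hb⟩).toAdd 1 = 0) : b ∈ ⁅M, M⁆ := by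
  have := C.second ⟨b, T.le hb⟩ h 1 (one_mem _) (by simpa using hb)
  simpa using this

theorem decomp_A (T : Struct y w d K l M A) {b : G} (hb : b ∈ A) :
    ∃ j : ℕ, (a₀ ^ j)⁻¹ * b ∈ ⁅M, M⁆ := by
  refine ⟨((χ ⟨b, T.le hb⟩).toAdd 1).val, C.mem_commutator_of_zero T
    (mul_mem (inv_mem (pow_mem C.mem _)) hb) ?_⟩
  set j := ((χ ⟨b, T.le hb⟩).toAdd 1).val with hj
  rw [show (⟨(a₀ ^ j)⁻¹ * b, T.le (mul_mem (inv_mem (pow_mem C.mem j)) hb)⟩ : ↥M) =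
    (⟨a₀, C.mem'⟩ ^ j)⁻¹ * ⟨b, T.le hb⟩ from Subtype.ext rfl, map_mul, map_inv, map_pow,
    toAdd_mul, toAdd_inv, toAdd_pow, C.basis_a ⟨a₀, C.mem'⟩ rfl]
  simp [hj]

/-- `N(M)` elements fixing both coordinate vectors to second order normalise `A`. -/
theorem normal_A (B : Base y w d K l e) (T : Struct y w d K l M A) {D : Subgroup G}
    (hn : D ≤ normalizer (M : Set G)) (hdD : ∀ g ∈ D, d * g * d⁻¹ ∈ D) (hMD : M ≤ D)
    (hent : ∀ g : ↥(normalizer (M : Set G)), (g : G) ∈ D →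
      (ρ g : Matrix (Fin 2) (Fin 2) (ZMod l)) 0 0 = 1 ∧
      (ρ g : Matrix (Fin 2) (Fin 2) (ZMod l)) 0 1 = 0 ∧
      (ρ g : Matrix (Fin 2) (Fin 2) (ZMod l)) 1 1 = 1)
    (hconj : ∀ g ∈ D, ∃ m ∈ M, d * g * d⁻¹ = m * g ^ K) :
    ∀ g ∈ D, ∀ b ∈ A, g * b * g⁻¹ ∈ A := by
  obtain ⟨τ, hτy, hτA, hτu⟩ := T.exists_tau
  have hlp : l.Prime := Fact.out
  have hmem : ∀ g ∈ D, ∀ m ∈ M, g * m * g⁻¹ ∈ M := fun g hg m hm =>
    (mem_normalizer_iff.1 (hn hg) m).1 hm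
  have hA1 : ∀ v : ↥M, (v : G) ∈ A → τ v = 1 := fun v hv =>
    hτu v 1 (one_mem _) (by simpa using hv)
  let η : ↥D → G := fun g => τ ⟨g * a₀ * (g : G)⁻¹, hmem g g.2 a₀ C.mem'⟩
  have hη_l : ∀ g : ↥D, η g ^ l = 1 := by
    intro g
    rw [← map_pow]
    refine hA1 _ ?_
    rw [SubmonoidClass.coe_pow, conj_pow]
    exact T.commutator_le B (conj_commutator (hn g.2) (C.pow_mem_commutator))
  have hz : ∀ (g : ↥D) (z : G) (hz : z ∈ zpowers y), z ^ l = 1 →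
      τ ⟨g * z * (g : G)⁻¹, hmem g g.2 z ((zpowers_le.2 T.memy) hz)⟩ = z := by
    intro g z hz hzl
    set v : ↥M := ⟨g * y * (g : G)⁻¹, hmem g g.2 y T.memy⟩ with hv
    obtain ⟨i, hi⟩ := (Submonoid.mem_powers_iff _ _).1 (mem_powers_iff_mem_zpowers.2 (hτy v))
    have hi' : y ^ i = τ v := hi
    have h0 := C.first v i (hi' ▸ hτA v)
    rw [C.apply ⟨g, hn g.2⟩ ⟨y, T.memy⟩ v rfl, C.basis_y ⟨y, T.memy⟩ rfl, toAdd_ofAdd] at h0
    have h00 := (hent ⟨g, hn g.2⟩ g.2).1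
    simp [Matrix.mulVec, dotProduct, Fin.sum_univ_two, h00] at h0
    have hi1 : i ≡ 1 [MOD l] := (ZMod.natCast_eq_natCast_iff _ _ _).1 (by rw [Nat.cast_one, ← h0])
    obtain ⟨j, rfl⟩ := (Submonoid.mem_powers_iff _ _).1 (mem_powers_iff_mem_zpowers.2 hz)
    rw [show (⟨g * y ^ j * (g : G)⁻¹, hmem g g.2 _ ((zpowers_le.2 T.memy) hz)⟩ : ↥M) = v ^ j from
      Subtype.ext (by rw [SubmonoidClass.coe_pow, hv, conj_pow]), map_pow, ← hi', ← pow_mul,
      mul_comm, pow_mul]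
    nth_rewrite 2 [← pow_one (y ^ j)]
    rw [pow_eq_pow_iff_modEq]
    exact hi1.of_dvd (orderOf_dvd_of_pow_eq_one hzl)
  have hmul : ∀ g g' : ↥D, η (g * g') = η g * η g' := by
    intro g g'
    set v : ↥M := ⟨g' * a₀ * (g' : G)⁻¹, hmem g' g'.2 a₀ C.mem'⟩ with hv
    have hvz : η g' ∈ zpowers y := hτy v
    have hzM : η g' ∈ M := (zpowers_le.2 T.memy) hvz
    set b := (v : G) * (η g')⁻¹ with hb
    have hbA : b ∈ A := hτA v
    have hb1 : a₀⁻¹ * b ∈ ⁅M, M⁆ := by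
      refine C.mem_commutator_of_zero T (mul_mem (inv_mem C.mem) hbA) ?_
      rw [show (⟨a₀⁻¹ * b, T.le (mul_mem (inv_mem C.mem) hbA)⟩ : ↥M) =
        (⟨a₀, C.mem'⟩)⁻¹ * (v * (⟨η g', hzM⟩)⁻¹) from Subtype.ext rfl, map_mul χ, map_mul χ,
        map_inv χ, map_inv χ, toAdd_mul, toAdd_mul, toAdd_inv, toAdd_inv,
        C.basis_a ⟨a₀, C.mem'⟩ rfl, C.apply ⟨g', hn g'.2⟩ ⟨a₀, C.mem'⟩ v rfl,
        C.basis_a ⟨a₀, C.mem'⟩ rfl]
      obtain ⟨i, hi⟩ := (Submonoid.mem_powers_iff _ _).1 (mem_powers_iff_mem_zpowers.2 hvz)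
      rw [show (⟨η g', hzM⟩ : ↥M) = ⟨y, T.memy⟩ ^ i from Subtype.ext (hi.symm.trans
        (SubmonoidClass.coe_pow (⟨y, T.memy⟩ : ↥M) i).symm), map_pow, toAdd_pow,
        C.basis_y ⟨y, T.memy⟩ rfl]
      have h11 := (hent ⟨g', hn g'.2⟩ g'.2).2.2
      simp [h11]
    have h1 : τ ⟨g * (a₀⁻¹ * b) * (g : G)⁻¹,
        hmem g g.2 _ (T.le (mul_mem (inv_mem C.mem) hbA))⟩ = 1 :=
      hA1 _ (T.commutator_le B (conj_commutator (hn g.2) hb1))
    have h2 := hz g (η g') hvz (hη_l g')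
    show τ ⟨_, _⟩ = η g * η g'
    conv_rhs => rw [← h2, ← mul_one (η g), ← h1]
    rw [← map_mul, ← map_mul]
    refine congrArg τ (Subtype.ext ?_)
    show ((g * g' : ↥D) : G) * a₀ * ((g * g' : ↥D) : G)⁻¹ =
      (g : G) * a₀ * (g : G)⁻¹ * ((g : G) * (a₀⁻¹ * b) * (g : G)⁻¹) *
        ((g : G) * η g' * (g : G)⁻¹)
    rw [hb, hv, Subgroup.coe_mul]
    group
  have hone : η 1 = 1 := hA1 _ (by simpa using C.mem)
  have hpow : ∀ (g : ↥D) (n : ℕ), η (g ^ n) = η g ^ n := by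
    intro g n
    induction n with
    | zero => simpa using hone
    | succ n ih => rw [pow_succ, hmul, ih, pow_succ]
  have hM : ∀ g : ↥D, (g : G) ∈ M → η g = 1 := fun g hg => hA1 _ (T.normal _ hg _ C.mem)
  have htd : ∀ v v' : ↥M, (v' : G) = d * v * d⁻¹ → τ v' = τ v := by
    intro v v' h
    refine hτu v' _ (hτy v) ?_
    rw [h, show d * (v : G) * d⁻¹ * (τ v)⁻¹ =
      d * ((v : G) * (τ v)⁻¹) * d⁻¹ * (d * τ v * d⁻¹ * (τ v)⁻¹) by group,
      B.d_fix (hτy v), mul_inv_cancel, mul_one, T.scal _ (hτA v)]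
    exact pow_mem (hτA v) K
  have htriv : ∀ g : ↥D, η g = 1 := by
    intro g
    set g' : ↥D := ⟨d * g * d⁻¹, hdD g g.2⟩ with hg'
    have h1 : η g' = η g ^ K := by
      obtain ⟨m, hm, he⟩ := hconj g g.2
      rw [show g' = ⟨m, hMD hm⟩ * g ^ K from Subtype.ext (by simpa [hg'] using he), hmul, hpow,
        hM ⟨m, hMD hm⟩ hm, one_mul]
    have h2 : η g' ^ K = η g := by
      show τ _ ^ K = τ _
      rw [← map_pow]
      refine htd _ _ ?_
      rw [SubmonoidClass.coe_pow, conj_pow, ← T.scal a₀ C.mem, hg']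
      group
    rw [h1, ← pow_mul, ← pow_two] at h2
    refine eq_one_of_pow_eq_one (k := 1) (by rw [pow_one]; exact hη_l g) B.not_dvd_sq_pred ?_
    rw [← mul_eq_right (b := η g), ← pow_succ, Nat.sub_add_cancel (Nat.one_le_pow _ _ B.one_le_K),
      h2]
  intro g hg b hb
  obtain ⟨j, hj⟩ := C.decomp_A T hb
  have h1 : τ ⟨g * b * g⁻¹, hmem g hg b (T.le hb)⟩ = 1 := by
    rw [show (⟨g * b * g⁻¹, hmem g hg b (T.le hb)⟩ : ↥M) =
      ⟨g * a₀ * g⁻¹, hmem g hg a₀ C.mem'⟩ ^ j *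
        ⟨g * ((a₀ ^ j)⁻¹ * b) * g⁻¹,
          hmem g hg _ (T.le (mul_mem (inv_mem (pow_mem C.mem j)) hb))⟩ from Subtype.ext (by
      rw [Subgroup.coe_mul, SubmonoidClass.coe_pow, conj_pow]; group), map_mul, map_pow,
      show τ ⟨g * a₀ * g⁻¹, hmem g hg a₀ C.mem'⟩ = 1 from htriv ⟨g, hg⟩, one_pow, one_mul]
    exact hA1 _ (T.commutator_le B (conj_commutator (hn hg) hj))
  have h2 := hτA ⟨g * b * g⁻¹, hmem g hg b (T.le hb)⟩
  simpa [h1] using h2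

/-- The image of `D` is generated by a lower unitriangular matrix. -/
theorem unitriangular (B : Base y w d K l e) (T : Struct y w d K l M A) {D : Subgroup G}
    (hD : IsPGroup l ↥D) (hMD : M ≤ D) (hn : D ≤ normalizer (M : Set G))
    (hdD : ∀ g ∈ D, d * g * d⁻¹ ∈ D) {g₀ : G} (hg₀ : g₀ ∈ D) (hg₀M : g₀ ∉ M) :
    (∀ g : ↥(normalizer (M : Set G)), (g : G) ∈ D →
      (ρ g : Matrix (Fin 2) (Fin 2) (ZMod l)) 0 0 = 1 ∧
      (ρ g : Matrix (Fin 2) (Fin 2) (ZMod l)) 0 1 = 0 ∧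
      (ρ g : Matrix (Fin 2) (Fin 2) (ZMod l)) 1 1 = 1) ∧
    (∀ g ∈ D, ∃ j : ℕ, ∃ m ∈ M, g = m * g₀ ^ j) ∧
    (∀ g ∈ D, ∃ m ∈ M, d * g * d⁻¹ = m * g ^ K) := by
  have hlp : l.Prime := Fact.out
  have h10mem : ∀ g : ↥(normalizer (M : Set G)), (g : G) ∈ D →
      (ρ g : Matrix (Fin 2) (Fin 2) (ZMod l)) 1 0 = 0 → (g : G) ∈ M := by
    intro g hg h
    obtain ⟨c, hc, he⟩ := C.line g h
    have hcg : Commute (c⁻¹ * (g : G)) y := mul_inv_eq_iff_eq_mul.1 (by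
      rw [show c⁻¹ * (g : G) * y * (c⁻¹ * (g : G))⁻¹ = c⁻¹ * ((g : G) * y * (g : G)⁻¹) * c by group,
        he]
      group)
    have h1 := T.le_D (B.centralizer_inter hD (hMD T.memy) (hMD T.memwD)
      (mul_mem (inv_mem (hMD hc)) hg) hcg)
    have := mul_mem hc h1
    rwa [mul_inv_cancel_left] at this
  let ι : ↥D →* GL (Fin 2) (ZMod l) := ρ.comp (Subgroup.inclusion hn)
  have hι1 : ∀ g : ↥D, ι g = 1 → (g : G) ∈ M := fun g h => h10mem _ g.2 (by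
    show (ι g : Matrix (Fin 2) (Fin 2) (ZMod l)) 1 0 = 0
    rw [h]; rfl)
  have hιM : ∀ g : ↥D, (g : G) ∈ M → ι g = 1 := fun g hg => C.inner _ hg
  obtain ⟨k, hk⟩ := IsPGroup.iff_card.1 (IsPGroup.of_surjective hD ι.rangeRestrict
    ι.rangeRestrict_surjective)
  have hdvd : l ^ k ∣ (l ^ 2 - 1) * (l * (l - 1)) := by
    have h := Subgroup.card_subgroup_dvd_card ι.range
    rw [hk, Matrix.card_GL_field, Fin.prod_univ_two, ZMod.card] at h
    simpa [Nat.mul_sub, pow_two] using h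
  have hk1 : k ≤ 1 := by
    by_contra hk1
    have h2 : l ^ 2 ∣ l * ((l ^ 2 - 1) * (l - 1)) := by
      refine (pow_dvd_pow l (show 2 ≤ k by omega)).trans ?_
      rwa [mul_left_comm]
    rw [pow_two, Nat.mul_dvd_mul_iff_left hlp.pos] at h2
    rcases hlp.dvd_mul.1 h2 with h | h
    · have h1 : l ∣ l * l := dvd_mul_right l l
      have := Nat.dvd_sub h1 h
      rw [Nat.sub_sub_self (Nat.one_le_iff_ne_zero.2 (Nat.mul_ne_zero hlp.ne_zero hlp.ne_zero))]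
        at this
      exact hlp.one_lt.ne' (Nat.dvd_one.1 this)
    · have := Nat.le_of_dvd (by have := hlp.two_le; omega) h
      have := hlp.two_le; omega
  set x₀ : ↥D := ⟨g₀, hg₀⟩ with hx₀
  have hγ1 : ι.rangeRestrict x₀ ≠ 1 := fun h => hg₀M (hι1 x₀ (congrArg Subtype.val h))
  have hR : Nat.card ↥ι.range = l := by
    rw [hk]
    rcases (show k = 0 ∨ k = 1 by omega) with rfl | rfl
    · haveI : Subsingleton ↥ι.range := (Nat.card_eq_one_iff_unique.1 (by simpa using hk)).1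
      exact absurd (Subsingleton.elim _ _) hγ1
    · exact pow_one l
  have hgen : ∀ g : ↥D, ∃ j : ℕ, ι g = ι x₀ ^ j := by
    intro g
    obtain ⟨j, hj⟩ := (Submonoid.mem_powers_iff _ _).1 (mem_powers_iff_mem_zpowers.2
      (mem_zpowers_of_prime_card (g' := ι.rangeRestrict g) hR hγ1))
    exact ⟨j, (congrArg Subtype.val hj).symm⟩
  set γ : Matrix (Fin 2) (Fin 2) (ZMod l) := (ι x₀ : Matrix (Fin 2) (Fin 2) (ZMod l)) with hγ
  have hc0 : γ 1 0 ≠ 0 := fun h => hg₀M (h10mem _ hg₀ h)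
  set dN : ↥(normalizer (M : Set G)) := ⟨d, T.mem_normalizer B⟩ with hdN
  have hδ : ∀ g : ↥D, (ι ⟨d * g * d⁻¹, hdD g g.2⟩ : Matrix (Fin 2) (Fin 2) (ZMod l)) *
      !![1, 0; 0, (K : ZMod l)] = !![1, 0; 0, (K : ZMod l)] *
        (ι g : Matrix (Fin 2) (Fin 2) (ZMod l)) := by
    intro g
    rw [← C.diag dN rfl, ← Units.val_mul, ← Units.val_mul]
    refine congrArg Units.val ?_
    show ρ _ * ρ dN = ρ dN * ρ _
    rw [← map_mul, ← map_mul]
    refine congrArg ρ (Subtype.ext ?_)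
    show d * g * d⁻¹ * d = d * g
    rw [inv_mul_cancel_right]
  set γ' : Matrix (Fin 2) (Fin 2) (ZMod l) :=
    (ι ⟨d * g₀ * d⁻¹, hdD g₀ hg₀⟩ : Matrix (Fin 2) (Fin 2) (ZMod l)) with hγ'
  have he := hδ x₀
  have e01 := congrFun (congrFun he 0) 1
  have e10 := congrFun (congrFun he 1) 0
  simp [Matrix.mul_apply, Fin.sum_univ_two, x₀] at e01 e10
  have hcom : γ * γ' = γ' * γ := by
    obtain ⟨j, hj⟩ := hgen ⟨d * g₀ * d⁻¹, hdD g₀ hg₀⟩
    rw [hγ', hj, hγ, Units.val_pow_eq_pow_val]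
    exact (Commute.self_pow _ j).eq
  have e00 := congrFun (congrFun hcom 0) 0
  simp [Matrix.mul_apply, Fin.sum_univ_two] at e00
  have hK : ((K : ZMod l) ^ 2 - 1) ≠ 0 := by
    intro h
    refine B.sq_ne_one ((ZMod.natCast_eq_natCast_iff _ _ _).1 ?_)
    push_cast
    exact sub_eq_zero.1 h
  have hb : γ 0 1 = 0 := by
    have h' : γ' 0 1 * (γ 1 0 * ((K : ZMod l) ^ 2 - 1)) = 0 := by
      linear_combination (K : ZMod l) * γ 1 0 * e01 - γ 0 1 * e10 + e00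
    have hb' := (mul_eq_zero.1 h').resolve_right (mul_ne_zero hc0 hK)
    linear_combination -e01 + (K : ZMod l) * hb'
  have hpow : ∀ n : ℕ, (γ ^ n) 0 1 = 0 ∧ (γ ^ n) 0 0 = γ 0 0 ^ n ∧ (γ ^ n) 1 1 = γ 1 1 ^ n := by
    intro n
    induction n with
    | zero => simp
    | succ n ih =>
      obtain ⟨i1, i2, i3⟩ := ih
      simp [pow_succ, Matrix.mul_apply, Fin.sum_univ_two, hb, i1, i2, i3]
  have hγl : γ ^ l = 1 := by
    have h : ι.rangeRestrict x₀ ^ Nat.card ↥ι.range = 1 := pow_card_eq_one'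
    rw [hR] at h
    have h' := congrArg Subtype.val h
    rw [SubmonoidClass.coe_pow, OneMemClass.coe_one] at h'
    rw [hγ, ← Units.val_pow_eq_pow_val, show ι x₀ ^ l = 1 from h', Units.val_one]
  have hp : γ 0 0 = 1 := by
    have := (hpow l).2.1
    rw [hγl, ZMod.pow_card] at this
    simpa using this.symm
  have hq : γ 1 1 = 1 := by
    have := (hpow l).2.2
    rw [hγl, ZMod.pow_card] at this
    simpa using this.symm
  have hent' : ∀ g : ↥D, (ι g : Matrix (Fin 2) (Fin 2) (ZMod l)) =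
      !![1, 0; (ι g : Matrix (Fin 2) (Fin 2) (ZMod l)) 1 0, 1] := by
    intro g
    obtain ⟨j, hj⟩ := hgen g
    have hj' : (ι g : Matrix (Fin 2) (Fin 2) (ZMod l)) = γ ^ j := by
      rw [hj, Units.val_pow_eq_pow_val]
    obtain ⟨i1, i2, i3⟩ := hpow j
    rw [hp, one_pow] at i2
    rw [hq, one_pow] at i3
    rw [hj']
    ext i k
    fin_cases i <;> fin_cases k <;> simp [i1, i2, i3]
  have hupow : ∀ (c : ZMod l) (n : ℕ),
      !![1, 0; c, (1 : ZMod l)] ^ n = !![1, 0; (n : ZMod l) * c, 1] := by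
    intro c n
    induction n with
    | zero => simp [Matrix.one_fin_two]
    | succ n ih =>
      rw [pow_succ, ih, Matrix.mul_fin_two, Nat.cast_succ, add_mul, one_mul]
      simp
  refine ⟨fun g hg => ?_, fun g hg => ?_, fun g hg => ?_⟩
  · have h := hent' ⟨g, hg⟩
    exact ⟨congrFun (congrFun h 0) 0, congrFun (congrFun h 0) 1, congrFun (congrFun h 1) 1⟩
  · obtain ⟨j, hj⟩ := hgen ⟨g, hg⟩
    refine ⟨j, g * (g₀ ^ j)⁻¹, hι1 ⟨_, mul_mem hg (inv_mem (pow_mem hg₀ j))⟩ ?_,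
      (inv_mul_cancel_right _ _).symm⟩
    rw [show (⟨g * (g₀ ^ j)⁻¹, mul_mem hg (inv_mem (pow_mem hg₀ j))⟩ : ↥D) =
      ⟨g, hg⟩ * (x₀ ^ j)⁻¹ from Subtype.ext rfl, map_mul, map_inv, map_pow, hj, mul_inv_cancel]
  · refine ⟨d * g * d⁻¹ * (g ^ K)⁻¹,
      hι1 ⟨_, mul_mem (hdD g hg) (inv_mem (pow_mem hg K))⟩ ?_, (inv_mul_cancel_right _ _).symm⟩
    rw [show (⟨d * g * d⁻¹ * (g ^ K)⁻¹, mul_mem (hdD g hg) (inv_mem (pow_mem hg K))⟩ : ↥D) =
      ⟨d * g * d⁻¹, hdD g hg⟩ * (⟨g, hg⟩ ^ K)⁻¹ from Subtype.ext rfl, map_mul, map_inv, map_pow,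
      mul_inv_eq_one]
    refine Units.ext ?_
    have h1 := congrFun (congrFun (hδ ⟨g, hg⟩) 1) 0
    simp [Matrix.mul_apply, Fin.sum_univ_two] at h1
    rw [Units.val_pow_eq_pow_val, hent' ⟨g, hg⟩, hupow, hent' ⟨d * g * d⁻¹, hdD g hg⟩, h1]

end Coord

end Cfsg.Agent.Lib.Walter.NoField.Chain
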