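import Cfsg.Agent.Lib.Walter.NoField.Chain.Exists

/-!
# Section Z, chain: a structured Sylow subgroup, and its conjugacy under `C⟨y, w⟩`

The Sylow `l`-subgroups of `N(D)` are conjugate under `C(D)`; so a maximal structured subgroup is a
Sylow subgroup `R` of `G`, and the Sylow subgroups over `⟨y, w⟩` are conjugate to `R` by elements
centralising `y` and `w`.

Owner: helper87.
-/

set_option autoImplicit false
set_option linter.style.haveILetI false
set_option linter.unusedSectionVars false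

universe u

namespace Cfsg.Agent.Lib.Walter.NoField.Chain

open Subgroup
open scoped commutatorElement

variable {G : Type u} [Group G] [Finite G] {y w d : G} {K l e : ℕ} [Fact l.Prime]
  {D A : Subgroup G}

theorem mem_smul_sylow {c g : G} {R : Sylow l G} :
    g ∈ ((c • R : Sylow l G) : Subgroup G) ↔ c⁻¹ * g * c ∈ (R : Subgroup G) := by
  rw [Sylow.coe_subgroup_smul]
  constructor
  · rintro ⟨v, hv, rfl⟩
    show c⁻¹ * (c * v * c⁻¹) * c ∈ (R : Subgroup G)
    rwa [show c⁻¹ * (c * v * c⁻¹) * c = v by group]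
  · intro h
    exact ⟨_, h, show c * (c⁻¹ * g * c) * c⁻¹ = g by group⟩

/-- An `l`-group grows in the normaliser of a proper subgroup. -/
theorem lt_inf_normalizer_of_lt {T : Subgroup G} (hT : IsPGroup l ↥T) (hDT : D < T) :
    D < T ⊓ normalizer (D : Set G) := by
  refine lt_of_le_of_ne (le_inf hDT.le le_normalizer) fun he => ?_
  haveI : Group.IsNilpotent ↥T := hT.isNilpotent
  have hlt : D.subgroupOf T < ⊤ := by
    rw [lt_top_iff_ne_top, Ne, subgroupOf_eq_top]
    exact fun h => hDT.not_ge h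
  obtain ⟨v, hv, hvD⟩ := SetLike.exists_of_lt (Group.normalizerCondition_of_isNilpotent _ hlt)
  refine hvD (mem_subgroupOf.2 (he.ge (mem_inf.2 ⟨v.2, mem_normalizer_fintype fun a ha => ?_⟩)))
  exact mem_subgroupOf.1 ((mem_normalizer_iff.1 hv ⟨a, hDT.le ha⟩).1 (mem_subgroupOf.2 ha))

/-- The Sylow subgroups of `N(D)` are conjugate under `C(D)`. -/
theorem Struct.sylow_conj (B : Base y w d K l e) (T : Struct y w d K l D A)
    (U U' : Sylow l ↥(normalizer (D : Set G))) :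
    ∃ c : ↥(normalizer (D : Set G)), (c : G) ∈ centralizer (D : Set G) ∧ U' = c • U := by
  obtain ⟨a₀, χ, ρ, C⟩ := T.exists_coord B
  obtain ⟨Q⟩ : Nonempty (Sylow l ↥ρ.range) := inferInstance
  set M := (Q : Subgroup ↥ρ.range).comap ρ.rangeRestrict with hM
  have hUM : ∀ V : Sylow l ↥(normalizer (D : Set G)), (V : Subgroup ↥(normalizer (D : Set G))) ≤ M := by
    intro V g hg
    obtain ⟨Q', hQ'⟩ := (V.isPGroup'.map ρ.rangeRestrict).exists_le_sylow
    rw [hM, mem_comap, SmallPrime.subsingleton_sylow B.ne_two C.noScalar Q Q']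
    exact hQ' ⟨g, hg, rfl⟩
  set Z := (centralizer (D : Set G)).subgroupOf (normalizer (D : Set G)) with hZ
  haveI hZn : Z.Normal := by
    refine ⟨fun v hv g => mem_subgroupOf.2 (mem_centralizer_iff.2 fun a ha => ?_)⟩
    have h1 := mem_centralizer_iff.1 (mem_subgroupOf.1 hv) _
      ((mem_normalizer_iff''.1 g.2 a).1 ha)
    show a * ((g : G) * v * (g : G)⁻¹) = (g : G) * v * (g : G)⁻¹ * a
    calc a * ((g : G) * v * (g : G)⁻¹)
        = (g : G) * ((g : G)⁻¹ * a * (g : G) * v) * (g : G)⁻¹ := by group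
      _ = (g : G) * (v * ((g : G)⁻¹ * a * (g : G))) * (g : G)⁻¹ := by rw [h1]
      _ = _ := by group
  have hker : ρ.ker ≤ M := fun g hg => by
    rw [hM, mem_comap, show ρ.rangeRestrict g = 1 from Subtype.ext (MonoidHom.mem_ker.1 hg)]
    exact one_mem _
  have hZM : Z ≤ M := by
    intro g hg
    refine hker ?_
    rw [MonoidHom.mem_ker]
    refine Units.ext (Matrix.ext fun i j => ?_)
    have hfix : ∀ v : ↥D, (v : G) = g * v * (g : G)⁻¹ := fun v => by
      rw [← mem_centralizer_iff.1 (mem_subgroupOf.1 hg) v v.2, mul_inv_cancel_right]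
    have h := fun v : ↥D => C.apply g v v (hfix v)
    have h0 := congrFun (h ⟨y, T.memy⟩) i
    have h1 := congrFun (h ⟨a₀, C.mem'⟩) i
    rw [C.basis_y ⟨y, T.memy⟩ rfl] at h0
    rw [C.basis_a ⟨a₀, C.mem'⟩ rfl] at h1
    simp [Matrix.mulVec, dotProduct, Fin.sum_univ_two] at h0 h1
    fin_cases i <;> fin_cases j
    all_goals first
      | simpa [Units.val_one] using h0.symm
      | simpa [Units.val_one] using h1.symm
  have hMq : IsPGroup l (↥M ⧸ Z.subgroupOf M) := by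
    intro q
    induction q using QuotientGroup.induction_on with
    | _ g =>
      obtain ⟨j, hj⟩ := Q.isPGroup' ⟨ρ.rangeRestrict g, g.2⟩
      have hj' : ρ ((g : ↥(normalizer (D : Set G))) ^ l ^ j) = 1 := by
        rw [map_pow]
        exact congrArg Subtype.val (congrArg Subtype.val hj)
      obtain ⟨k, hk⟩ := C.ker _ hj'
      refine ⟨j + k, ?_⟩
      rw [← QuotientGroup.mk_pow, QuotientGroup.eq_one_iff, pow_add, pow_mul, mem_subgroupOf,
        hZ, mem_subgroupOf]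
      simpa using hk
  have hMle : M ≤ Z ⊔ (U : Subgroup ↥(normalizer (D : Set G))) := by
    rw [← relIndex_eq_one]
    obtain ⟨k, hk⟩ := IsPGroup.iff_card.1 hMq
    have h1 : (Z ⊔ (U : Subgroup ↥(normalizer (D : Set G)))).relIndex M ∣ l ^ k := by
      rw [← hk]
      exact relIndex_dvd_of_le_left M le_sup_left
    have h2 : (Z ⊔ (U : Subgroup ↥(normalizer (D : Set G)))).relIndex M ∣ (U : Subgroup ↥(normalizer (D : Set G))).index := by
      refine (Dvd.intro _ (relIndex_mul_index (sup_le hZM (hUM U)))).trans ?_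
      exact index_dvd_of_le le_sup_right
    exact Nat.eq_one_of_dvd_coprimes
      (((Fact.out : l.Prime).coprime_iff_not_dvd.2 U.not_dvd_index).pow_left k) h1 h2
  obtain ⟨g, hg⟩ := MulAction.exists_smul_eq ↥M (U.subtype (hUM U)) (U'.subtype (hUM U'))
  rw [Sylow.smul_subtype] at hg
  have hg' : (g : ↥(normalizer (D : Set G))) • U = U' := Sylow.subtype_injective hg
  obtain ⟨c, hc, v, hv, he⟩ := mem_sup_of_normal_left.1 (hMle g.2)
  refine ⟨c, mem_subgroupOf.1 hc, ?_⟩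
  rw [← hg', ← he, mul_smul, Sylow.smul_eq_iff_mem_normalizer.2 (le_normalizer hv)]

/-- A structured Sylow subgroup, for a possibly different `d`. -/
theorem Base.exists_sylow (B : Base y w d K l e) :
    ∃ (d' : G) (R : Sylow l G) (A : Subgroup G),
      Base y w d' K l e ∧ Struct y w d' K l (R : Subgroup G) A := by
  classical
  have hlp : l.Prime := Fact.out
  have hn : zpowers w ≤ normalizer (zpowers y : Set G) := by
    refine (zpowers_le.2 ?_).trans (centralizer_le_normalizer _)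
    exact mem_centralizer_iff.2 fun z hz => by
      obtain ⟨i, rfl⟩ := mem_zpowers_iff.1 hz
      exact (B.comm.zpow_right i).eq.symm
  have hP : IsPGroup l ↥(zpowers y ⊔ zpowers w : Subgroup G) := by
    rw [sup_comm]
    exact B.isPGroup_w.to_sup_of_normal_right' B.isPGroup_y hn
  obtain ⟨D, ⟨d, A, B, T⟩, hmax⟩ := (Set.toFinite {D : Subgroup G | ∃ (d' : G) (A : Subgroup G),
      Base y w d' K l e ∧ Struct y w d' K l D A}).exists_maximal
        ⟨zpowers y ⊔ zpowers w, d, zpowers w, B,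
          B.struct_P hP (mem_sup_left (mem_zpowers y)) (mem_sup_right (mem_zpowers w)) le_rfl⟩
  obtain ⟨S, hS⟩ := T.pgroup.exists_le_sylow
  by_cases hDS : (S : Subgroup G) ≤ D
  · exact ⟨d, S, A, B, le_antisymm hS hDS ▸ T⟩
  exfalso
  have hlt := lt_inf_normalizer_of_lt S.isPGroup' (lt_of_le_not_ge hS hDS)
  set N := normalizer (D : Set G) with hN
  obtain ⟨U, hU⟩ := ((S.isPGroup'.to_inf_left (K := N)).comap_of_injective N.subtype
    N.subtype_injective).exists_le_sylow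
  set X := (U : Subgroup ↥N).map N.subtype with hX
  have hDX : D < X := lt_of_lt_of_le hlt fun g hg =>
    ⟨⟨g, (mem_inf.1 hg).2⟩, hU hg, rfl⟩
  obtain ⟨c, hc, hcU⟩ := T.sylow_conj B U ((⟨d, T.mem_normalizer B⟩ : ↥N) • U)
  set d₁ : ↥N := c⁻¹ * ⟨d, T.mem_normalizer B⟩ with hd₁
  have hd₁U : d₁ • U = U := by rw [hd₁, mul_smul, hcU, inv_smul_smul]
  obtain ⟨q, hq0, hq1⟩ := Nat.chineseRemainder
    ((Nat.coprime_ordCompl hlp (Nat.card_pos (α := G)).ne').pow_left ((Nat.card G).factorization l))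
    0 1
  have hq0' : ordProj[l] (Nat.card G) ∣ q := (Nat.modEq_zero_iff_dvd).1 hq0
  have hdq : d ^ q = d := by
    conv_rhs => rw [← pow_one d]
    rw [pow_eq_pow_iff_modEq]
    exact hq1.of_dvd (orderOf_dvd_of_pow_eq_one B.dpow)
  have hpow1 : ∀ g : G, (g ^ q) ^ ordCompl[l] (Nat.card G) = 1 := by
    intro g
    obtain ⟨r, hr⟩ := hq0'
    rw [← pow_mul, hr, mul_right_comm, Nat.ordProj_mul_ordCompl_eq_self, pow_mul,
      pow_card_eq_one', one_pow]
  have hact : ∀ (n : ℕ) (v : G), v ∈ D →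
      (d₁ : G) ^ n * v * ((d₁ : G) ^ n)⁻¹ = d ^ n * v * (d ^ n)⁻¹ := by
    intro n
    induction n with
    | zero => intro v _; simp
    | succ n ih =>
      intro v hv
      have h1 : (d₁ : G) * v * (d₁ : G)⁻¹ = d * v * d⁻¹ := by
        show (c : G)⁻¹ * d * v * ((c : G)⁻¹ * d)⁻¹ = _
        have hcv : Commute (c : G)⁻¹ (d * v * d⁻¹) :=
          (show Commute (c : G) (d * v * d⁻¹) from
            (mem_centralizer_iff.1 hc _ (T.conj_mem B hv)).symm).inv_left
        calc (c : G)⁻¹ * d * v * ((c : G)⁻¹ * d)⁻¹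
            = (c : G)⁻¹ * (d * v * d⁻¹) * (c : G) := by group
          _ = (d * v * d⁻¹) * (c : G)⁻¹ * (c : G) := by rw [hcv.eq]
          _ = _ := inv_mul_cancel_right _ _
      rw [show (d₁ : G) ^ (n + 1) * v * ((d₁ : G) ^ (n + 1))⁻¹ =
          (d₁ : G) ^ n * ((d₁ : G) * v * (d₁ : G)⁻¹) * ((d₁ : G) ^ n)⁻¹ by rw [pow_succ]; group, h1,
        ih _ (T.conj_mem B hv), pow_succ]
      group
  set d₂ : G := (d₁ : G) ^ q with hd₂
  have hd₂D : ∀ v ∈ D, d₂ * v * d₂⁻¹ = d * v * d⁻¹ := fun v hv => by rw [hd₂, hact q v hv, hdq]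
  have B' : Base y w d₂ K l e :=
    { B with
      dy := mul_inv_eq_iff_eq_mul.1 (by rw [hd₂D y T.memy, B.d_fix (mem_zpowers y)])
      dpow := hpow1 _
      dw := by rw [hd₂D w T.memwD, B.dw] }
  have hX' : ∀ v ∈ X, d₂ * v * d₂⁻¹ ∈ X := by
    rintro _ ⟨v, hv, rfl⟩
    refine ⟨d₁ ^ q * v * (d₁ ^ q)⁻¹, ?_, by simp [hd₂]⟩
    exact (mem_normalizer_iff.1 (pow_mem (Sylow.smul_eq_iff_mem_normalizer.1 hd₁U) q) v).1 hv
  obtain ⟨A', T'⟩ := B'.exists_struct (U.isPGroup'.map _) (hDX.le T.memy) (hDX.le T.memwD) hX'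
  exact hDX.not_ge (hmax ⟨d₂, A', B', T'⟩ hDX.le)

/-- The Sylow subgroups over `⟨y, w⟩`. -/
theorem Struct.exists_smul (B : Base y w d K l e) {R : Sylow l G}
    (T : Struct y w d K l (R : Subgroup G) A) (R' : Sylow l G) (hy : y ∈ (R' : Subgroup G))
    (hw : w ∈ (R' : Subgroup G)) : ∃ c : G, Commute c y ∧ Commute c w ∧ R' = c • R := by
  suffices h : ∀ (n : ℕ) (R' : Sylow l G), y ∈ (R' : Subgroup G) → w ∈ (R' : Subgroup G) →
      Nat.card G - Nat.card ↥((R : Subgroup G) ⊓ R' : Subgroup G) = n →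
      ∃ c : G, Commute c y ∧ Commute c w ∧ R' = c • R from h _ R' hy hw rfl
  intro n
  induction n using Nat.strong_induction_on with
  | _ n ih =>
    intro R' hy hw hn
    by_cases heq : R' = R
    · exact ⟨1, Commute.one_left y, Commute.one_left w, by rw [one_smul, heq]⟩
    set D : Subgroup G := (R : Subgroup G) ⊓ R' with hD
    have TD := T.restrict (inf_le_left : D ≤ R) ⟨T.memy, hy⟩ ⟨T.memwD, hw⟩
    set N := normalizer (D : Set G) with hN
    have h1 : D < (R : Subgroup G) := lt_of_le_of_ne inf_le_left fun h => heq (Sylow.ext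
      (R.is_maximal' R'.isPGroup' (h.ge.trans inf_le_right)))
    have h2 : D < (R' : Subgroup G) := lt_of_le_of_ne inf_le_right fun h => heq (Sylow.ext
      (R'.is_maximal' R.isPGroup' (h.ge.trans inf_le_left)).symm)
    have hl₁ := lt_inf_normalizer_of_lt R.isPGroup' h1
    have hl₂ := lt_inf_normalizer_of_lt R'.isPGroup' h2
    obtain ⟨U, hU⟩ := ((R.isPGroup'.to_inf_left (K := N)).comap_of_injective N.subtype
      N.subtype_injective).exists_le_sylow
    obtain ⟨U', hU'⟩ := ((R'.isPGroup'.to_inf_left (K := N)).comap_of_injective N.subtype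
      N.subtype_injective).exists_le_sylow
    obtain ⟨c, hc, rfl⟩ := TD.sylow_conj B U U'
    have hcy : Commute (c : G) y :=
      (mem_centralizer_iff.1 hc y ⟨T.memy, hy⟩).symm
    have hcw : Commute (c : G) w :=
      (mem_centralizer_iff.1 hc w ⟨T.memwD, hw⟩).symm
    obtain ⟨R'', hR''⟩ := (U.isPGroup'.map N.subtype).exists_le_sylow
    have hbig : ∀ {Y : Subgroup G}, Nat.card ↥D < Nat.card ↥Y → Nat.card G - Nat.card ↥Y < n := by
      intro Y hY
      have := Subgroup.card_le_card_group (H := Y)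
      omega
    have hlt : ∀ {X : Subgroup G}, D < X → Nat.card ↥D < Nat.card ↥X := fun {X} h =>
      lt_of_not_ge fun h' => h.ne (eq_of_le_of_card_ge h.le h')
    have hR1 : (R : Subgroup G) ⊓ N ≤ (R : Subgroup G) ⊓ R'' := fun g hg =>
      mem_inf.2 ⟨(mem_inf.1 hg).1, hR'' ⟨⟨g, (mem_inf.1 hg).2⟩, hU hg, rfl⟩⟩
    obtain ⟨c₁, hc₁y, hc₁w, rfl⟩ := ih _ (hbig ((hlt hl₁).trans_le (card_le_of_le hR1))) R''
      (hR'' ⟨⟨y, le_normalizer (mem_inf.2 ⟨T.memy, hy⟩)⟩,
        hU (mem_inf.2 ⟨T.memy, le_normalizer (mem_inf.2 ⟨T.memy, hy⟩)⟩), rfl⟩)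
      (hR'' ⟨⟨w, le_normalizer (mem_inf.2 ⟨T.memwD, hw⟩)⟩,
        hU (mem_inf.2 ⟨T.memwD, le_normalizer (mem_inf.2 ⟨T.memwD, hw⟩)⟩), rfl⟩) rfl
    set g₀ : G := (c : G) * c₁ with hg₀
    have hgy : Commute g₀ y := hcy.mul_left hc₁y
    have hgw : Commute g₀ w := hcw.mul_left hc₁w
    set R₂ := g₀⁻¹ • R' with hR₂
    have hmem : ∀ g : G, g ∈ (R₂ : Subgroup G) ↔ g₀ * g * g₀⁻¹ ∈ (R' : Subgroup G) := fun g => by
      rw [hR₂, mem_smul_sylow, inv_inv]
    have h3 : ((R' : Subgroup G) ⊓ N).map (MulAut.conj g₀⁻¹).toMonoidHom ≤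
        (R : Subgroup G) ⊓ R₂ := by
      rintro _ ⟨g, hg, rfl⟩
      show g₀⁻¹ * g * g₀⁻¹⁻¹ ∈ _
      refine mem_inf.2 ⟨?_, (hmem _).2 ?_⟩
      · obtain ⟨hgR, hgN⟩ := mem_inf.1 hg
        have h4 : (⟨g, hgN⟩ : ↥N) ∈ ((c • U : Sylow l ↥N) : Subgroup ↥N) := hU' hg
        have h5 : (c⁻¹ * ⟨g, hgN⟩ * c : ↥N) ∈ (U : Subgroup ↥N) := mem_smul_sylow.1 h4
        have h6 : (c : G)⁻¹ * g * c ∈ ((c₁ • R : Sylow l G) : Subgroup G) :=
          hR'' ⟨_, h5, rfl⟩
        rw [mem_smul_sylow] at h6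
        simpa [hg₀, mul_assoc] using h6
      · rw [show g₀ * (g₀⁻¹ * g * g₀⁻¹⁻¹) * g₀⁻¹ = g by group]
        exact (mem_inf.1 hg).1
    obtain ⟨c₂, hc₂y, hc₂w, he⟩ := ih _ (hbig ((hlt hl₂).trans_le
      ((Subgroup.card_map_of_injective (MulAut.conj g₀⁻¹).injective).symm.trans_le
        (card_le_of_le h3)))) R₂
      ((hmem y).2 (by rw [hgy.eq, mul_inv_cancel_right]; exact hy))
      ((hmem w).2 (by rw [hgw.eq, mul_inv_cancel_right]; exact hw)) rfl
    refine ⟨g₀ * c₂, hgy.mul_left hc₂y, hgw.mul_left hc₂w, ?_⟩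
    rw [mul_smul, ← he, hR₂, smul_inv_smul]

end Cfsg.Agent.Lib.Walter.NoField.Chain
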